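import Groth.Agent.L20.SchDesc.Sigma
import Groth.Prelude.Def_DescFam

/-!
# Refinement of descent data

Pulling descent data back along a morphism of families is fully faithful when, locally for the fpqc
topology, the points of the target family come from the source family.
-/

set_option autoImplicit false
set_option linter.style.haveILetI false
set_option backward.isDefEq.respectTransparency.types false

universe u

open CategoryTheory Limits AlgebraicGeometry

namespace Groth.L20.SchDesc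

/-- A morphism constant on an fpqc family factors through it. -/
theorem exists_desc_family {S Z : Scheme.{u}} {κ : Type u} {A : κ → Scheme.{u}} (π : ∀ k, A k ⟶ S)
    (hπ : Presieve.ofArrows A π ∈ Scheme.fpqcPrecoverage S) (φ : ∀ k, A k ⟶ Z)
    (h : ∀ {T : Scheme.{u}} (i j : κ) (a : T ⟶ A i) (b : T ⟶ A j),
      a ≫ π i = b ≫ π j → a ≫ φ i = b ≫ φ j) :
    ∃ m : S ⟶ Z, ∀ k, π k ≫ m = φ k := by
  have := cov_sigmaDesc π hπ
  obtain ⟨m, hm⟩ := Cov.exists_desc (p := Sigma.desc π) (Sigma.desc φ) (fun {T} g₁ g₂ e => by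
    have hc : TopologicalSpace.IsOpenCover fun k : κ × κ =>
        g₁ ⁻¹ᵁ (Sigma.ι A k.1).opensRange ⊓ g₂ ⁻¹ᵁ (Sigma.ι A k.2).opensRange :=
      TopologicalSpace.IsOpenCover.mk (eq_top_iff.2 fun t _ => by
        obtain ⟨i, a, ha⟩ := exists_sigmaι_eq (g₁ t)
        obtain ⟨j, b, hb⟩ := exists_sigmaι_eq (g₂ t)
        exact TopologicalSpace.Opens.mem_iSup.2 ⟨(i, j), ⟨a, ha⟩, ⟨b, hb⟩⟩)
    refine Scheme.Cover.hom_ext (T.openCoverOfIsOpenCover _ hc) _ _ fun (k : κ × κ) => ?_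
    let O := g₁ ⁻¹ᵁ (Sigma.ι A k.1).opensRange ⊓ g₂ ⁻¹ᵁ (Sigma.ι A k.2).opensRange
    show O.ι ≫ g₁ ≫ Sigma.desc φ = O.ι ≫ g₂ ≫ Sigma.desc φ
    let a := IsOpenImmersion.lift (Sigma.ι A k.1) (O.ι ≫ g₁) (by rintro _ ⟨t, rfl⟩; exact t.2.1)
    let b := IsOpenImmersion.lift (Sigma.ι A k.2) (O.ι ≫ g₂) (by rintro _ ⟨t, rfl⟩; exact t.2.2)
    have ha : a ≫ Sigma.ι A k.1 = O.ι ≫ g₁ := IsOpenImmersion.lift_fac _ _ _
    have hb : b ≫ Sigma.ι A k.2 = O.ι ≫ g₂ := IsOpenImmersion.lift_fac _ _ _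
    rw [← reassoc_of% ha, ← reassoc_of% hb, Sigma.ι_desc, Sigma.ι_desc]
    refine h _ _ a b ?_
    have e' := congrArg (O.ι ≫ ·) e
    rw [← reassoc_of% ha, ← reassoc_of% hb, Sigma.ι_desc, Sigma.ι_desc] at e'
    exact e')
  exact ⟨m, fun k => by rw [← Sigma.ι_desc π k, Category.assoc, hm, Sigma.ι_desc]⟩

theorem eq_of_family {S Z : Scheme.{u}} {κ : Type u} {A : κ → Scheme.{u}} (π : ∀ k, A k ⟶ S)
    (hπ : Presieve.ofArrows A π ∈ Scheme.fpqcPrecoverage S) {a b : S ⟶ Z}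
    (h : ∀ k, π k ≫ a = π k ≫ b) : a = b := by
  have := cov_sigmaDesc π hπ
  have := Cov.epi (Sigma.desc π)
  exact (cancel_epi (Sigma.desc π)).1 (Sigma.hom_ext _ _ fun k => by simpa using h k)

section refine

variable {ι κ : Type u} {S : Scheme.{u}} {U : ι → Scheme.{u}} {V : κ → Scheme.{u}}
  {u : ∀ i, U i ⟶ S} {v : ∀ j, V j ⟶ S} {α : ι → κ} {g : ∀ i, U i ⟶ V (α i)}
  (w : ∀ i, g i ≫ v (α i) = u i ≫ 𝟙 S)

/-- The functor pulling data back along the refinement. -/
noncomputable abbrev pullR : Desc.SchDDFam v ⥤ Desc.SchDDFam u :=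
  Desc.pullDDFam (f := v) (f' := u) (α := α) (p := 𝟙 S) (p' := g) w

include w in
theorem refine_cond {T : Scheme.{u}} {j : κ} {i : ι} {x : T ⟶ V j} {y : T ⟶ U i}
    (c : x ≫ v j = y ≫ u i) : x ≫ v j = (y ≫ g i) ≫ v (α i) := by
  rw [c, Category.assoc, w, Category.comp_id]

/-- The value of a morphism at a point of `V j`, computed through a point of `U i`. -/
noncomputable def transfer {D D' : Desc.SchDDFam v} (h : (pullR w).obj D ⟶ (pullR w).obj D')
    {T : Scheme.{u}} {j : κ} {i : ι} (x : T ⟶ V j) (y : T ⟶ U i) (c : x ≫ v j = y ≫ u i)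
    (a : Desc.Lifts (D.obj j) x) : Desc.Lifts (D'.obj j) x :=
  D'.φ (y ≫ g i) x (refine_cond w c).symm
    (Desc.liftsPullbackEquiv (D'.obj (α i)) (g i) y
      (Desc.SchDDFam.Hom.push h ((Desc.liftsPullbackEquiv (D.obj (α i)) (g i) y).symm
        (D.φ x (y ≫ g i) (refine_cond w c) a))))

theorem push_comm {D D' : Desc.SchDDFam v} (h : (pullR w).obj D ⟶ (pullR w).obj D')
    {T : Scheme.{u}} {i i' : ι} (y : T ⟶ U i) (y' : T ⟶ U i') (c : y ≫ u i = y' ≫ u i')
    (z : Desc.Lifts (D.obj (α i)) (y ≫ g i)) :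
    D'.φ (y ≫ g i) (y' ≫ g i') (Desc.pull_compat w y y' c)
        (Desc.liftsPullbackEquiv (D'.obj (α i)) (g i) y
          (Desc.SchDDFam.Hom.push h ((Desc.liftsPullbackEquiv (D.obj (α i)) (g i) y).symm z))) =
      Desc.liftsPullbackEquiv (D'.obj (α i')) (g i') y'
        (Desc.SchDDFam.Hom.push h ((Desc.liftsPullbackEquiv (D.obj (α i')) (g i') y').symm
          (D.φ (y ≫ g i) (y' ≫ g i') (Desc.pull_compat w y y' c) z))) := by
  have hc := h.comm y y' c ((Desc.liftsPullbackEquiv (D.obj (α i)) (g i) y).symm z)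
    (Desc.SchDDFam.Hom.push h ((Desc.liftsPullbackEquiv (D.obj (α i)) (g i) y).symm z)) rfl
  have h1 : ((pullR w).obj D').φ y y' c
      (Desc.SchDDFam.Hom.push h ((Desc.liftsPullbackEquiv (D.obj (α i)) (g i) y).symm z)) =
      Desc.SchDDFam.Hom.push h (((pullR w).obj D).φ y y' c
        ((Desc.liftsPullbackEquiv (D.obj (α i)) (g i) y).symm z)) := Subtype.ext hc
  have h2 := congrArg (Desc.liftsPullbackEquiv (D'.obj (α i')) (g i') y') h1
  have e1 : ∀ q, Desc.liftsPullbackEquiv (D'.obj (α i')) (g i') y' (((pullR w).obj D').φ y y' c q) =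
      D'.φ (y ≫ g i) (y' ≫ g i') (Desc.pull_compat w y y' c)
        (Desc.liftsPullbackEquiv (D'.obj (α i)) (g i) y q) := fun q =>
    Equiv.apply_symm_apply _ _
  have e2 : ((pullR w).obj D).φ y y' c ((Desc.liftsPullbackEquiv (D.obj (α i)) (g i) y).symm z) =
      (Desc.liftsPullbackEquiv (D.obj (α i')) (g i') y').symm
        (D.φ (y ≫ g i) (y' ≫ g i') (Desc.pull_compat w y y' c) z) := by
    show (Desc.liftsPullbackEquiv (D.obj (α i')) (g i') y').symm _ = _
    exact congrArg _ (congrArg _ (Equiv.apply_symm_apply _ _))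
  rw [e1, e2] at h2
  exact h2

theorem transfer_eq {D D' : Desc.SchDDFam v} (h : (pullR w).obj D ⟶ (pullR w).obj D')
    {T : Scheme.{u}} {j : κ} {i i' : ι} (x : T ⟶ V j) (y : T ⟶ U i) (y' : T ⟶ U i')
    (c : x ≫ v j = y ≫ u i) (c' : x ≫ v j = y' ≫ u i') (a : Desc.Lifts (D.obj j) x) :
    transfer w h x y c a = transfer w h x y' c' a := by
  have hy : y ≫ u i = y' ≫ u i' := c.symm.trans c'
  unfold transfer
  rw [← D'.φ_comp (y ≫ g i) (y' ≫ g i') x (Desc.pull_compat w y y' hy) (refine_cond w c').symm,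
    push_comm w h y y' hy, D.φ_comp]

theorem transfer_natural {D D' : Desc.SchDDFam v} (h : (pullR w).obj D ⟶ (pullR w).obj D')
    {T T' : Scheme.{u}} (r : T' ⟶ T) {j : κ} {i : ι} (x : T ⟶ V j) (y : T ⟶ U i)
    (c : x ≫ v j = y ≫ u i) (a : Desc.Lifts (D.obj j) x) {x' : T' ⟶ V j} {y' : T' ⟶ U i}
    (hx : r ≫ x = x') (hy : r ≫ y = y') (c' : x' ≫ v j = y' ≫ u i) (a' : Desc.Lifts (D.obj j) x')
    (ha : a'.1 = r ≫ a.1) :
    (transfer w h x' y' c' a').1 = r ≫ (transfer w h x y c a).1 := by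
  subst hx hy
  refine D'.φ_natural r _ _ _ _ _ (Category.assoc _ _ _).symm rfl _ _ _ ?_
  have hn := D.φ_natural r _ _ (refine_cond w c) _ _ rfl (Category.assoc _ _ _).symm
    (refine_cond w c') a a' ha
  show (_ ≫ (h.hom i).left) ≫ _ = r ≫ (_ ≫ (h.hom i).left) ≫ _
  rw [← Category.assoc r, ← Category.assoc r]
  refine congrArg (fun m => (m ≫ (h.hom i).left) ≫ pullback.fst _ _) ?_
  apply pullback.hom_ext
  · exact ((pullback.lift_fst _ _ _).trans
      (hn.trans (congrArg (r ≫ ·) (pullback.lift_fst _ _ _).symm))).trans (Category.assoc _ _ _).symm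
  · exact ((pullback.lift_snd _ _ _).trans
      (congrArg (r ≫ ·) (pullback.lift_snd _ _ _).symm)).trans (Category.assoc _ _ _).symm

theorem transfer_map {D D' : Desc.SchDDFam v} (m : D ⟶ D') {T : Scheme.{u}} {j : κ} {i : ι}
    (x : T ⟶ V j) (y : T ⟶ U i) (c : x ≫ v j = y ≫ u i) (a : Desc.Lifts (D.obj j) x) :
    (transfer w ((pullR w).map m) x y c a).1 = a.1 ≫ (m.hom j).left := by
  have key : Desc.liftsPullbackEquiv (D'.obj (α i)) (g i) y
      (Desc.SchDDFam.Hom.push ((pullR w).map m) ((Desc.liftsPullbackEquiv (D.obj (α i)) (g i) y).symm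
        (D.φ x (y ≫ g i) (refine_cond w c) a))) =
      Desc.SchDDFam.Hom.push m (D.φ x (y ≫ g i) (refine_cond w c) a) := by
    refine Subtype.ext ?_
    show (_ ≫ (((pullR w).map m).hom i).left) ≫ pullback.fst _ _ = _ ≫ (m.hom (α i)).left
    refine (Category.assoc _ _ _).trans ((congrArg (_ ≫ ·) (pullback.lift_fst _ _ _)).trans
      ((Category.assoc _ _ _).symm.trans ?_))
    exact congrArg (· ≫ (m.hom (α i)).left) (pullback.lift_fst _ _ _)
  show (D'.φ _ x _ (Desc.liftsPullbackEquiv (D'.obj (α i)) (g i) y _)).1 = _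
  rw [key, m.comm _ x (refine_cond w c).symm (D.φ x (y ≫ g i) (refine_cond w c) a) _ rfl,
    D.φ_comp, D.φ_self]

/-- Pullback along a refinement is faithful when points of the target lift jointly epimorphically. -/
theorem pullR_faithful
    (hext : ∀ (j : κ) {T Z : Scheme.{u}} (x : T ⟶ V j) (a b : T ⟶ Z),
      (∀ {T' : Scheme.{u}} (e : T' ⟶ T) (i : ι) (y : T' ⟶ U i),
        (e ≫ x) ≫ v j = y ≫ u i → e ≫ a = e ≫ b) → a = b) :
    (pullR w).Faithful := by
  refine ⟨fun {D D'} m m' h => ?_⟩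
  refine Desc.SchDDFam.hom_ext (funext fun j => Over.OverMorphism.ext ?_)
  refine hext j (D.obj j).hom _ _ fun {T'} e i y c => ?_
  exact ((transfer_map w m (e ≫ (D.obj j).hom) y c ⟨e, rfl⟩).symm.trans (by rw [h])).trans
    (transfer_map w m' (e ≫ (D.obj j).hom) y c ⟨e, rfl⟩)

/-- Pullback along a refinement is fully faithful when points of the target lift fpqc-locally. -/
theorem pullR_full_faithful
    (hcov : ∀ j, ∃ (K : Type u) (W : K → Scheme.{u}) (e : ∀ k, W k ⟶ V j) (idx : K → ι)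
      (y : ∀ k, W k ⟶ U (idx k)), Presieve.ofArrows W e ∈ Scheme.fpqcPrecoverage (V j) ∧
        ∀ k, e k ≫ v j = y k ≫ u (idx k)) :
    (pullR w).Full ∧ (pullR w).Faithful := by
  choose K W e idx y hmem hc using hcov
  have hmemT : ∀ (j : κ) {T : Scheme.{u}} (x : T ⟶ V j),
      Presieve.ofArrows (fun k => pullback x (e j k)) (fun k => pullback.fst x (e j k)) ∈
        Scheme.fpqcPrecoverage T := fun j T x =>
    Precoverage.mem_coverings_of_isPullback _ (hmem j) x _ _ fun k => IsPullback.of_hasPullback _ _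
  have hcT : ∀ (j : κ) {T : Scheme.{u}} (x : T ⟶ V j) (k : K j),
      (pullback.fst x (e j k) ≫ x) ≫ v j =
        (pullback.snd x (e j k) ≫ y j k) ≫ u (idx j k) := fun j T x k => by
    rw [pullback.condition, Category.assoc, hc, Category.assoc]
  refine ⟨⟨fun {D D'} h => ?_⟩, pullR_faithful w fun j T Z x a b hab =>
    eq_of_family _ (hmemT j x) fun k => hab _ _ _ (hcT j x k)⟩
  have hex : ∀ j, ∃ m : (D.obj j).left ⟶ (D'.obj j).left, ∀ {T : Scheme.{u}} (i : ι) (x : T ⟶ V j)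
      (y : T ⟶ U i) (c : x ≫ v j = y ≫ u i) (a : Desc.Lifts (D.obj j) x),
      a.1 ≫ m = (transfer w h x y c a).1 := by
    intro j
    obtain ⟨m, hm⟩ := exists_desc_family _ (hmemT j (D.obj j).hom)
      (fun k => (transfer w h _ _ (hcT j _ k) ⟨pullback.fst _ (e j k), rfl⟩).1)
      (fun {T} k l a b hab => by
        have c₁ : (a ≫ pullback.fst _ (e j k) ≫ (D.obj j).hom) ≫ v j =
            (a ≫ pullback.snd _ (e j k) ≫ y j k) ≫ u (idx j k) := by
          simpa [Category.assoc] using congrArg (a ≫ ·) (hcT j (D.obj j).hom k)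
        have c₂ : (a ≫ pullback.fst _ (e j k) ≫ (D.obj j).hom) ≫ v j =
            (b ≫ pullback.snd _ (e j l) ≫ y j l) ≫ u (idx j l) := by
          rw [← Category.assoc a, hab]
          simp only [Category.assoc]
          simpa [Category.assoc] using congrArg (b ≫ ·) (hcT j (D.obj j).hom l)
        rw [← transfer_natural w h a _ _ (hcT j _ k) ⟨pullback.fst _ (e j k), rfl⟩ rfl rfl c₁
            ⟨a ≫ pullback.fst _ (e j k), Category.assoc _ _ _⟩ rfl,
          ← transfer_natural w h b _ _ (hcT j _ l) ⟨pullback.fst _ (e j l), rfl⟩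
            (show b ≫ pullback.fst _ (e j l) ≫ (D.obj j).hom =
              a ≫ pullback.fst _ (e j k) ≫ (D.obj j).hom by rw [← Category.assoc, ← hab,
                Category.assoc]) rfl c₂
            ⟨a ≫ pullback.fst _ (e j k), Category.assoc _ _ _⟩ hab]
        rw [transfer_eq w h _ _ _ c₁ c₂])
    refine ⟨m, fun {T} i x y' c a => ?_⟩
    obtain ⟨a, rfl⟩ := a
    refine eq_of_family _ (hmemT j (a ≫ (D.obj j).hom)) fun k => ?_
    let r := pullback.fst (a ≫ (D.obj j).hom) (e j k)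
    let s : pullback (a ≫ (D.obj j).hom) (e j k) ⟶ pullback (D.obj j).hom (e j k) :=
      pullback.lift (r ≫ a) (pullback.snd _ _) (by rw [Category.assoc]; exact pullback.condition)
    have hs₁ : s ≫ pullback.fst _ _ = r ≫ a := pullback.lift_fst _ _ _
    have hs₂ : s ≫ pullback.snd _ _ = pullback.snd _ _ := pullback.lift_snd _ _ _
    rw [← reassoc_of% hs₁, hm]
    rw [← transfer_natural w h s _ _ (hcT j _ k) ⟨pullback.fst _ (e j k), rfl⟩
        (show s ≫ pullback.fst _ _ ≫ (D.obj j).hom = r ≫ a ≫ (D.obj j).hom by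
          rw [reassoc_of% hs₁])
        (show s ≫ pullback.snd _ _ ≫ _ = pullback.snd _ _ ≫ _ by rw [reassoc_of% hs₂])
        (hcT j _ k) ⟨r ≫ a, Category.assoc _ _ _⟩ hs₁.symm,
      ← transfer_natural w h r _ _ c ⟨a, rfl⟩ rfl rfl
        ((Category.assoc _ _ _).trans ((congrArg (r ≫ ·) c).trans (Category.assoc _ _ _).symm) :
          (r ≫ a ≫ (D.obj j).hom) ≫ v j = (r ≫ y') ≫ u i)
        ⟨r ≫ a, Category.assoc _ _ _⟩ rfl]
    rw [transfer_eq w h _ _ (r ≫ y') _
      ((Category.assoc _ _ _).trans ((congrArg (r ≫ ·) c).trans (Category.assoc _ _ _).symm) :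
          (r ≫ a ≫ (D.obj j).hom) ≫ v j = (r ≫ y') ≫ u i)]
  choose m hm using hex
  have hhom : ∀ j, m j ≫ (D'.obj j).hom = (D.obj j).hom := fun j => by
    refine eq_of_family _ (hmemT j (D.obj j).hom) fun k => ?_
    exact (Category.assoc _ _ _).symm.trans
      ((congrArg (· ≫ (D'.obj j).hom) (hm j _ _ _ (hcT j _ k) ⟨pullback.fst _ (e j k), rfl⟩)).trans
        (transfer w h _ _ (hcT j _ k) ⟨pullback.fst _ (e j k), rfl⟩).2)
  refine ⟨⟨fun j => Over.homMk (m j) (hhom j), fun T j j' x₀ x₁ c a b hb => ?_⟩,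
    Desc.SchDDFam.hom_ext (funext fun i => Over.OverMorphism.ext ?_)⟩
  · refine eq_of_family _ (hmemT j x₀) fun k => ?_
    let r := pullback.fst x₀ (e j k)
    let y₀ := pullback.snd x₀ (e j k) ≫ y j k
    have c₀ : (r ≫ x₀) ≫ v j = y₀ ≫ u (idx j k) := hcT j x₀ k
    have c₁ : (r ≫ x₁) ≫ v j' = y₀ ≫ u (idx j k) := by
      rw [Category.assoc, ← c, ← Category.assoc, c₀]
    have cr : (r ≫ x₀) ≫ v j = (r ≫ x₁) ≫ v j' := c₀.trans c₁.symm
    let a' : Desc.Lifts (D.obj j) (r ≫ x₀) := ⟨r ≫ a.1, by rw [Category.assoc, a.2]⟩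
    let b' : Desc.Lifts (D'.obj j) (r ≫ x₀) := ⟨r ≫ b.1, by rw [Category.assoc, b.2]⟩
    have hb' : b' = transfer w h (r ≫ x₀) y₀ c₀ a' := Subtype.ext (by
      show r ≫ b.1 = _
      rw [hb, ← Category.assoc]
      exact hm j _ _ _ c₀ a')
    show r ≫ (D'.φ x₀ x₁ c b).1 = r ≫ (D.φ x₀ x₁ c a).1 ≫ m j'
    rw [← D'.φ_natural r x₀ x₁ c _ _ rfl rfl cr b b' rfl, ← Category.assoc,
      ← D.φ_natural r x₀ x₁ c _ _ rfl rfl cr a a' rfl, hm j' _ _ _ c₁ (D.φ _ _ cr a'), hb']
    unfold transfer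
    rw [D'.φ_comp, D.φ_comp]
  · let z := pullback.fst (D.obj (α i)).hom (g i)
    let y₀ := pullback.snd (D.obj (α i)).hom (g i)
    have hz : z ≫ (D.obj (α i)).hom = y₀ ≫ g i := pullback.condition
    have c₀ : (y₀ ≫ g i) ≫ v (α i) = y₀ ≫ u i := by rw [Category.assoc, w, Category.comp_id]
    have key := hm (α i) i (y₀ ≫ g i) y₀ c₀ ⟨z, hz⟩
    unfold transfer at key
    rw [D.φ_self, D'.φ_self] at key
    apply pullback.hom_ext
    · refine (pullback.lift_fst _ _ _).trans (key.trans ?_)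
      show ((_ : pullback _ _ ⟶ _) ≫ (h.hom i).left) ≫ pullback.fst _ _ = _
      refine congrArg (· ≫ pullback.fst _ _) ?_
      refine Eq.trans (congrArg (· ≫ (h.hom i).left) ?_) (Category.id_comp _)
      apply pullback.hom_ext
      · exact (pullback.lift_fst _ _ _).trans (Category.id_comp _).symm
      · exact (pullback.lift_snd _ _ _).trans (Category.id_comp _).symm
    · exact ((pullback.lift_snd _ _ _).trans (Category.comp_id _)).trans (Over.w (h.hom i)).symm

end refine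

end Groth.L20.SchDesc
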