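import Groth.Agent.L20.SchDesc.Cov
import Mathlib.AlgebraicGeometry.Morphisms.FinitePresentation

/-!
# Fppf coverings are coverings
-/

set_option autoImplicit false
set_option linter.style.haveILetI false
set_option backward.isDefEq.respectTransparency.types false

universe u

open CategoryTheory Limits AlgebraicGeometry

namespace Groth.L20.SchDesc

instance (priority := 90) Cov.of_lfp {X S : Scheme.{u}} {p : X ⟶ S} [Flat p] [Surjective p]
    [LocallyOfFinitePresentation p] : Cov p :=
  ⟨inferInstance, inferInstance, X, X, 𝟙 X, 𝟙 X, p, rfl, inferInstance, inferInstance,
    inferInstance, inferInstance, inferInstance, inferInstance⟩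

end Groth.L20.SchDesc
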