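import Groth.Agent.L20.SchDesc.Cov
import Groth.Agent.L20.QuasiAffine
import Groth.Agent.L19.FpqcCover
import Mathlib.AlgebraicGeometry.Limits
import Mathlib.AlgebraicGeometry.Cover.QuasiCompact
import Mathlib.AlgebraicGeometry.Morphisms.FinitePresentation

/-!
# Fpqc covering families as single coverings

The sum of an fpqc covering family is a covering, and sums of ind-quasi-affine morphisms are
ind-quasi-affine.
-/

set_option autoImplicit false
set_option linter.style.haveILetI false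
set_option backward.isDefEq.respectTransparency.types false

universe u

open CategoryTheory Limits AlgebraicGeometry TopologicalSpace

namespace Groth.L20.SchDesc

variable {κ : Type u} {A B : κ → Scheme.{u}}

theorem exists_sigmaι_eq (x : ↥(∐ A)) : ∃ i y, Sigma.ι A i y = x := by
  obtain ⟨⟨i, y⟩, rfl⟩ := (sigmaMk A).surjective x
  exact ⟨i, y, (sigmaMk_mk A i y).symm⟩

theorem eq_of_sigmaι_eq {i j : κ} {a : A i} {b : A j} (h : Sigma.ι A i a = Sigma.ι A j b) :
    i = j := by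
  rw [← sigmaMk_mk, ← sigmaMk_mk] at h
  exact congrArg Sigma.fst ((sigmaMk A).injective h)

theorem isPullback_sigmaMap (g : ∀ i, A i ⟶ B i) (j : κ) :
    IsPullback (g j) (Sigma.ι A j) (Sigma.ι B j) (Limits.Sigma.map g) := by
  refine IsOpenImmersion.isPullback _ _ _ _ (Sigma.ι_map g j) ?_
  refine Opens.ext (Set.Subset.antisymm ?_ ?_)
  · rintro z ⟨y, hy⟩
    obtain ⟨i, a, rfl⟩ := exists_sigmaι_eq z
    rw [← Scheme.Hom.comp_apply, Sigma.ι_map, Scheme.Hom.comp_apply] at hy
    obtain rfl := eq_of_sigmaι_eq hy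
    exact ⟨a, rfl⟩
  · rintro _ ⟨a, rfl⟩
    exact ⟨g j a, by rw [← Scheme.Hom.comp_apply, ← Scheme.Hom.comp_apply, Sigma.ι_map]⟩

/-- A property local on the target holds for a sum of morphisms having it. -/
theorem sigmaMap_of (P : MorphismProperty Scheme.{u}) [IsZariskiLocalAtTarget P]
    (g : ∀ i, A i ⟶ B i) (h : ∀ i, P (g i)) : P (Limits.Sigma.map g) := by
  refine (IsZariskiLocalAtTarget.iff_of_openCover (sigmaOpenCover B)).2 fun j => ?_
  have key : ∀ j : κ, P (pullback.snd (Limits.Sigma.map g) (Sigma.ι B j)) := fun j => by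
    rw [← IsPullback.isoIsPullback_hom_snd _ _ (IsPullback.of_hasPullback _ _)
      (isPullback_sigmaMap g j).flip]
    exact MorphismProperty.RespectsIso.precomp P _ _ (h j)
  exact key j

/-- Ind-quasi-affineness may be checked on an open cover of the target. -/
theorem isIndQuasiAffineHom_of_openCover {V X : Scheme.{u}} (f : V ⟶ X) (Y W : κ → Scheme.{u})
    (j : ∀ i, Y i ⟶ X) [∀ i, IsOpenImmersion (j i)] (m : ∀ i, W i ⟶ V) (g : ∀ i, W i ⟶ Y i)
    (hc : ∀ i, IsPullback (m i) (g i) f (j i)) (hcov : ∀ x, ∃ i, x ∈ Set.range (j i))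
    (hg : ∀ i, MoreMor.IsIndQuasiAffineHom (g i)) : MoreMor.IsIndQuasiAffineHom f := by
  rw [Groth.L20.isIndQuasiAffineHom_iff]
  intro D hD U hUD hU
  have : CompactSpace U := isCompact_iff_compactSpace.mp hU
  refine Groth.L20.isQuasiAffine_of_forall_exists_basicOpen _ fun x => ?_
  obtain ⟨i, hi⟩ := hcov (f x.1)
  obtain ⟨r, hr, hxr⟩ := hD.exists_basicOpen_le (V := (j i).opensRange) ⟨f x.1, hi⟩ (hUD x.2)
  let s₁ : Γ(V, U) := f.appLE D U hUD r
  have hs₁ : V.basicOpen s₁ = U ⊓ f ⁻¹ᵁ X.basicOpen r := Scheme.basicOpen_appLE f U D hUD r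
  let s : Γ(U, ⊤) := U.topIso.inv s₁
  have hs : U.ι ''ᵁ (U : Scheme).basicOpen s = V.basicOpen s₁ := by
    rw [Scheme.image_basicOpen]
    simp only [s, Scheme.Opens.ι_appIso, Scheme.Opens.topIso_inv]
    exact V.basicOpen_res_eq _ _
  refine ⟨s, ?_, ?_⟩
  · obtain ⟨y, hy, e⟩ : x.1 ∈ U.ι ''ᵁ (U : Scheme).basicOpen s := by
      rw [hs, hs₁]; exact ⟨x.2, hxr⟩
    rwa [U.ι.isOpenEmbedding.injective e] at hy
  · have hc' : IsCompact ((U : Scheme).basicOpen s : Set U) :=
      isCompact_basicOpen (U : Scheme) (U := ⊤) isCompact_univ _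
    have hU'c : IsCompact (V.basicOpen s₁ : Set V) := hs ▸ hc'.image U.ι.continuous
    have : IsOpenImmersion (m i) :=
      MorphismProperty.of_isPullback (hc i).flip inferInstance
    have hsub : (V.basicOpen s₁ : Set V) ⊆ Set.range (m i) := fun z hz => by
      rw [hs₁] at hz
      obtain ⟨y, hy⟩ := hr hz.2
      obtain ⟨w, hw, -⟩ := Scheme.exists_preimage_of_isPullback (hc i) z y hy.symm
      exact ⟨w, hw⟩
    let Ui : (W i).Opens := m i ⁻¹ᵁ V.basicOpen s₁
    have hUi : IsCompact (Ui : Set (W i)) := by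
      rw [(m i).isOpenEmbedding.isEmbedding.isCompact_iff]
      show IsCompact (m i '' (m i ⁻¹' (V.basicOpen s₁ : Set V)))
      rwa [Set.image_preimage_eq_of_subset hsub]
    have hDi : IsAffineOpen (j i ⁻¹ᵁ X.basicOpen r) :=
      (hD.basicOpen r).preimage_of_isOpenImmersion _ hr
    have : (Ui : Scheme).IsQuasiAffine :=
      (Groth.L20.isIndQuasiAffineHom_iff _).1 (hg i) _ hDi Ui (fun w hw => by
        show j i (g i w) ∈ X.basicOpen r
        rw [← Scheme.Hom.comp_apply, ← (hc i).w, Scheme.Hom.comp_apply]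
        exact ((SetLike.ext_iff.1 hs₁ (m i w)).1 hw).2) hUi
    have : CompactSpace (V.basicOpen s₁ : V.Opens) := isCompact_iff_compactSpace.mp hU'c
    have he : m i ''ᵁ Ui = V.basicOpen s₁ :=
      Opens.ext (Set.image_preimage_eq_of_subset hsub)
    have : (V.basicOpen s₁ : Scheme).IsQuasiAffine :=
      Scheme.IsQuasiAffine.of_isImmersion ((V.isoOfEq he).inv ≫ ((m i).isoImage Ui).inv)
    have : CompactSpace ((U : Scheme).basicOpen s) := isCompact_iff_compactSpace.mp hc'
    exact Scheme.IsQuasiAffine.of_isImmersion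
      ((U.ι.isoImage ((U : Scheme).basicOpen s)).hom ≫ (V.isoOfEq hs).hom)

theorem sigmaMap_isIndQuasiAffineHom (g : ∀ i, A i ⟶ B i)
    (h : ∀ i, MoreMor.IsIndQuasiAffineHom (g i)) :
    MoreMor.IsIndQuasiAffineHom (Limits.Sigma.map g) :=
  isIndQuasiAffineHom_of_openCover _ B A (Sigma.ι B) (Sigma.ι A) g
    (fun i => (isPullback_sigmaMap g i).flip)
    (fun x => by obtain ⟨i, y, hy⟩ := exists_sigmaι_eq x; exact ⟨i, y, hy⟩) h

/-- The sum of an fpqc covering family is a covering. -/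
theorem cov_sigmaDesc {S : Scheme.{u}} (f : ∀ i, A i ⟶ S)
    (hf : Presieve.ofArrows A f ∈ Scheme.fpqcPrecoverage S) : Cov (Sigma.desc f) := by
  have hflat := Groth.L19.flat_of_mem_fpqc hf
  have hsurj := Groth.L19.exists_mem_range_of_mem_fpqc hf
  have hflat' : Flat (Sigma.desc f) := IsZariskiLocalAtSource.sigmaDesc hflat
  have key : ∀ s : S, ∃ (W : S.Opens) (Y : Scheme.{u}) (h : Y ⟶ ∐ A) (e : Y ⟶ W), s ∈ W ∧
      h ≫ Sigma.desc f = e ≫ W.ι ∧ Flat e ∧ Surjective e ∧ QuasiCompact e := by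
    intro s
    obtain ⟨W, hW, hs, -⟩ :=
      exists_isAffineOpen_mem_and_subset (X := S) (x := s) (U := ⊤) trivial
    obtain ⟨n, a, U, hU, heq⟩ := Groth.L19.exists_affineOpens_of_mem_fpqc hf hW
    let Y' : ULift.{u} (Fin n) → Scheme.{u} := fun k => (U k.down : Scheme)
    let h : ∐ Y' ⟶ ∐ A := Sigma.desc fun k => (U k.down).ι ≫ Sigma.ι A (a k.down)
    have hk : ∀ k, Sigma.ι Y' k ≫ h ≫ Sigma.desc f = (U k.down).ι ≫ f (a k.down) := fun k => by
      simp [h, Y']
    have hrange : Set.range (h ≫ Sigma.desc f) = (W : Set S) := by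
      rw [← heq]
      apply Set.Subset.antisymm
      · rintro _ ⟨z, rfl⟩
        obtain ⟨k, y, rfl⟩ := exists_sigmaι_eq z
        rw [← Scheme.Hom.comp_apply, hk]
        exact Set.mem_iUnion.2 ⟨k.down, (U k.down).ι y, y.2, rfl⟩
      · intro t ht
        obtain ⟨k, y, hy, rfl⟩ := Set.mem_iUnion.1 ht
        refine ⟨Sigma.ι Y' ⟨k⟩ ⟨y, hy⟩, ?_⟩
        rw [← Scheme.Hom.comp_apply, hk]
        rfl
    let e := IsOpenImmersion.lift W.ι (h ≫ Sigma.desc f) (by rw [Scheme.Opens.range_ι, hrange])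
    have he : e ≫ W.ι = h ≫ Sigma.desc f := IsOpenImmersion.lift_fac _ _ _
    have hfl : Flat (h ≫ Sigma.desc f) := by
      have : Flat h := IsZariskiLocalAtSource.sigmaDesc fun k => inferInstance
      infer_instance
    have hef : Flat e := MorphismProperty.of_isPullback (P := @Flat)
      (IsOpenImmersion.isPullback e (𝟙 _) W.ι (e ≫ W.ι) (Category.id_comp _) (by
        rw [Scheme.Hom.opensRange_of_isIso (𝟙 _), eq_top_iff]
        intro z _
        exact ⟨e z, rfl⟩)).flip (by rw [he]; exact hfl)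
    have : ∀ k, IsAffine (Y' k) := fun k => hU k.down
    have : IsAffine W := hW
    have : IsAffineHom e := isAffineHom_of_isAffine e
    refine ⟨W, ∐ Y', h, e, hs, he.symm, hef, ⟨fun w => ?_⟩, inferInstance⟩
    obtain ⟨y, hy⟩ : W.ι w ∈ Set.range (h ≫ Sigma.desc f) := by rw [hrange]; exact w.2
    refine ⟨y, W.ι.isOpenEmbedding.injective ?_⟩
    rw [← Scheme.Hom.comp_apply, he, hy]
  choose W Y h e hs he hef hes heq using key
  refine ⟨hflat', ⟨fun s => ?_⟩, ∐ Y, ∐ (fun s : S => (W s).toScheme), Sigma.desc h,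
    Limits.Sigma.map e, Sigma.desc fun s => (W s).ι, Sigma.hom_ext _ _ fun s => by simp [he],
    sigmaMap_of @Flat e hef, sigmaMap_of @Surjective e hes, sigmaMap_of @QuasiCompact e heq,
    IsZariskiLocalAtSource.sigmaDesc fun s => inferInstance, ⟨fun s => ?_⟩,
    IsZariskiLocalAtSource.sigmaDesc fun s => inferInstance⟩
  · obtain ⟨i, y, rfl⟩ := hsurj s
    exact ⟨Sigma.ι A i y, by rw [← Scheme.Hom.comp_apply, Sigma.ι_desc]⟩
  · exact ⟨Sigma.ι (fun s : S => (W s).toScheme) s ⟨s, hs s⟩, by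
      rw [← Scheme.Hom.comp_apply, Sigma.ι_desc]; rfl⟩

end Groth.L20.SchDesc
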