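import Groth.Agent.L20.SchDesc.AffineHom

/-!
# Effectivity may be checked after a further covering

If `h : Y ⟶ X` is such that `h ≫ p` is still a covering of `S`, a descent datum relative to `p` is
effective as soon as its pullback along `h` is effective.
-/

set_option autoImplicit false
set_option linter.style.haveILetI false
set_option backward.isDefEq.respectTransparency.types false

universe u

open CategoryTheory Limits AlgebraicGeometry

namespace Groth.L20.SchDesc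

variable {X S V : Scheme.{u}} {p : X ⟶ S} {f : V ⟶ X}

theorem basePull_q_eq (P : Pre p f) {Y : Scheme.{u}} (h : Y ⟶ X) (d : Descent (basePull P h))
    {T : Scheme.{u}} (w₁ w₂ : T ⟶ pullback f h)
    (hc : (w₁ ≫ pullback.fst f h) ≫ f ≫ p = (w₂ ≫ pullback.snd f h ≫ h) ≫ p)
    (he : P.act (w₁ ≫ pullback.fst f h) (w₂ ≫ pullback.snd f h ≫ h) hc = w₂ ≫ pullback.fst f h) :
    w₁ ≫ d.q = w₂ ≫ d.q := by
  have hc' : w₁ ≫ pullback.snd f h ≫ h ≫ p = (w₂ ≫ pullback.snd f h) ≫ h ≫ p := by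
    simp only [Category.assoc] at hc ⊢
    rw [← hc, pullback.condition_assoc]
  have key : (basePull P h).act w₁ (w₂ ≫ pullback.snd f h) hc' = w₂ := by
    apply pullback.hom_ext
    · refine (basePull_act_fst P h _ _ _).trans ?_
      exact (P.act_congr rfl (Category.assoc _ _ _) _ hc).trans he
    · exact (basePull P h).hom _ _ _
  exact (d.comm w₁ _ hc').symm.trans (congrArg (· ≫ d.q) key)

/-- Effectivity is checked after a further covering. -/
theorem effective_of_chart (P : Pre p f) {Y : Scheme.{u}} (h : Y ⟶ X) [Cov (h ≫ p)]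
    (hE : Effective (basePull P h)) : Effective P := by
  obtain ⟨d⟩ := hE
  let pr := pullback.fst f h
  let π : pullback (f ≫ p) (h ≫ p) ⟶ V := pullback.fst _ _
  let y : pullback (f ≫ p) (h ≫ p) ⟶ Y := pullback.snd _ _
  have : Cov π := Cov.of_isPullback (IsPullback.of_hasPullback (f ≫ p) (h ≫ p)).flip
  have := Cov.epi π
  have hπy : π ≫ f ≫ p = (y ≫ h) ≫ p := pullback.condition.trans (Category.assoc _ _ _).symm
  let ρ : pullback (f ≫ p) (h ≫ p) ⟶ pullback f h :=
    pullback.lift (P.act π (y ≫ h) hπy) y (P.hom _ _ _)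
  have hρ₁ : ρ ≫ pr = P.act π (y ≫ h) hπy := pullback.lift_fst _ _ _
  have hρ₂ : ρ ≫ pullback.snd f h = y := pullback.lift_snd _ _ _
  have hρ₁' : ∀ {T : Scheme.{u}} (g : T ⟶ pullback (f ≫ p) (h ≫ p))
      (e : (g ≫ π) ≫ f ≫ p = (g ≫ y ≫ h) ≫ p),
      (g ≫ ρ) ≫ pr = P.act (g ≫ π) (g ≫ y ≫ h) e := fun {T} g e => by
    rw [Category.assoc, hρ₁]
    exact P.natural' g π (y ≫ h) hπy e rfl rfl
  have hρ₂' : ∀ {T : Scheme.{u}} (g : T ⟶ pullback (f ≫ p) (h ≫ p)),
      (g ≫ ρ) ≫ pullback.snd f h ≫ h = g ≫ y ≫ h := fun {T} g => by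
    rw [Category.assoc, reassoc_of% hρ₂]
  have hcond : ∀ {T : Scheme.{u}} (g : T ⟶ pullback (f ≫ p) (h ≫ p)),
      (g ≫ π) ≫ f ≫ p = (g ≫ y ≫ h) ≫ p := fun {T} g => by
    rw [Category.assoc, hπy, ← Category.assoc]
  obtain ⟨q, hq⟩ := Cov.exists_desc (p := π) (ρ ≫ d.q) (fun {T} g₁ g₂ e => by
    rw [← Category.assoc, ← Category.assoc]
    refine basePull_q_eq P h d _ _ ?_ ?_
    · rw [hρ₁' g₁ (hcond g₁), hρ₂', P.hom_p, ← hcond g₁, ← hcond g₂, e]
    · rw [hρ₁' g₂ (hcond g₂)]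
      refine (P.act_congr (hρ₁' g₁ (hcond g₁)) (hρ₂' g₂) _ ?_).trans ?_
      · rw [P.hom_p, ← hcond g₁, ← hcond g₂, e]
      · refine (P.comp _ _ _ _ _ ?_).trans (P.act_congr e rfl _ _)
        rw [e, hcond g₂])
  have hprq : pr ≫ q = d.q := by
    let l : pullback f h ⟶ pullback (f ≫ p) (h ≫ p) := pullback.lift pr (pullback.snd f h) (by
      simp only [pr, pullback.condition_assoc])
    have hl₁ : l ≫ π = pr := pullback.lift_fst _ _ _
    have hl₂ : l ≫ y = pullback.snd f h := pullback.lift_snd _ _ _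
    have hlρ : l ≫ ρ = 𝟙 _ := by
      apply pullback.hom_ext
      · rw [hρ₁' l (hcond l), Category.id_comp]
        refine (P.act_congr hl₁ (x' := pr ≫ f) ?_ _ (Category.assoc _ _ _).symm).trans (P.self _ _)
        rw [reassoc_of% hl₂]
        exact pullback.condition.symm
      · rw [Category.assoc, hρ₂, hl₂, Category.id_comp]
    rw [← hl₁, Category.assoc, hq, reassoc_of% hlρ]
  have hcomm : ∀ {T : Scheme.{u}} (v : T ⟶ V) (x : T ⟶ X) (e : v ≫ f ≫ p = x ≫ p),
      P.act v x e ≫ q = v ≫ q := by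
    intro T v x e
    let r := pullback.fst (v ≫ f ≫ p) (h ≫ p)
    let z := pullback.snd (v ≫ f ≫ p) (h ≫ p)
    have : Cov r := Cov.of_isPullback (IsPullback.of_hasPullback (v ≫ f ≫ p) (h ≫ p)).flip
    have := Cov.epi r
    have h2 : (r ≫ v) ≫ f ≫ p = z ≫ h ≫ p := by rw [Category.assoc]; exact pullback.condition
    have h1 : (r ≫ P.act v x e) ≫ f ≫ p = z ≫ h ≫ p := by
      exact (Category.assoc _ _ _).trans ((congrArg (r ≫ ·) ((P.hom_p v x e).trans e.symm)).trans
        ((Category.assoc _ _ _).symm.trans h2))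
    let l₁ : _ ⟶ pullback (f ≫ p) (h ≫ p) := pullback.lift (r ≫ P.act v x e) z h1
    let l₂ : _ ⟶ pullback (f ≫ p) (h ≫ p) := pullback.lift (r ≫ v) z h2
    have a₁ : l₁ ≫ π = r ≫ P.act v x e := pullback.lift_fst _ _ _
    have b₁ : l₁ ≫ y = z := pullback.lift_snd _ _ _
    have a₂ : l₂ ≫ π = r ≫ v := pullback.lift_fst _ _ _
    have b₂ : l₂ ≫ y = z := pullback.lift_snd _ _ _
    have hll : l₁ ≫ ρ = l₂ ≫ ρ := by
      apply pullback.hom_ext
      · rw [hρ₁' l₁ (hcond l₁), hρ₁' l₂ (hcond l₂)]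
        have e' : (r ≫ v) ≫ f ≫ p = (r ≫ x) ≫ p :=
          (Category.assoc _ _ _).trans ((congrArg (r ≫ ·) e).trans (Category.assoc _ _ _).symm)
        refine (P.act_congr (a₁.trans (P.natural' r v x e e' rfl rfl))
          (x' := l₂ ≫ y ≫ h) (by rw [reassoc_of% b₁, reassoc_of% b₂]) _ ?_).trans
            ((P.comp _ _ _ _ _ ?_).trans (P.act_congr a₂.symm rfl _ _))
        · rw [P.hom_p, ← e', ← a₂, hcond l₂]
        · rw [← a₂, hcond l₂]
      · rw [Category.assoc, Category.assoc, hρ₂, b₁, b₂]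
    rw [← cancel_epi r, ← reassoc_of% a₁, hq, reassoc_of% hll, ← hq, reassoc_of% a₂]
  have hsq : f ≫ p = q ≫ d.a := by
    rw [← cancel_epi π, reassoc_of% hq, ← d.isPullback.w, reassoc_of% hρ₂]
    exact pullback.condition
  refine ⟨⟨d.U, d.a, q, ?_, hcomm⟩⟩
  let κ : V ⟶ pullback p d.a := pullback.lift f q hsq
  let G := pullback.fst (pullback.fst p d.a ≫ p) (h ≫ p)
  let yy := pullback.snd (pullback.fst p d.a ≫ p) (h ≫ p)
  have : Cov G :=
    Cov.of_isPullback (IsPullback.of_hasPullback (pullback.fst p d.a ≫ p) (h ≫ p)).flip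
  have := Cov.epi G
  have hGc : G ≫ pullback.fst p d.a ≫ p = yy ≫ h ≫ p := pullback.condition
  have hωc : yy ≫ h ≫ p = (G ≫ pullback.snd p d.a) ≫ d.a := by
    exact hGc.symm.trans ((congrArg (G ≫ ·) pullback.condition).trans (Category.assoc _ _ _).symm)
  let ω := d.isPullback.lift yy (G ≫ pullback.snd p d.a) hωc
  have hω₁ : ω ≫ pullback.snd f h = yy := d.isPullback.lift_fst _ _ _
  have hω₂ : ω ≫ d.q = G ≫ pullback.snd p d.a := d.isPullback.lift_snd _ _ _
  have hψc : (ω ≫ pr) ≫ f ≫ p = (G ≫ pullback.fst p d.a) ≫ p := by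
    simp only [pr, Category.assoc, pullback.condition_assoc]
    rw [reassoc_of% hω₁, hGc]
  obtain ⟨ι, hι⟩ := Cov.exists_desc (p := G) (P.act (ω ≫ pr) (G ≫ pullback.fst p d.a) hψc)
    (fun {T} g₁ g₂ e => by
      have c : ∀ g : T ⟶ pullback (pullback.fst p d.a ≫ p) (h ≫ p),
          (g ≫ ω ≫ pr) ≫ f ≫ p = (g ≫ G ≫ pullback.fst p d.a) ≫ p := fun g => by
        rw [Category.assoc, hψc, ← Category.assoc]
      have c₂ : (g₁ ≫ ω) ≫ d.q = (g₂ ≫ ω) ≫ d.q := by
        rw [Category.assoc, Category.assoc, hω₂, reassoc_of% e]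
      have key := congrArg (· ≫ pr) (d.act_eq _ _ c₂ (d.cond _ _ c₂))
      have key' := (basePull_act_fst P h _ _ (d.cond _ _ c₂)).symm.trans key
      have c₃ : (g₁ ≫ ω ≫ pr) ≫ f ≫ p = (g₂ ≫ G ≫ pullback.fst p d.a) ≫ p := by
        rw [c g₁, reassoc_of% e]
      rw [P.natural' g₁ _ _ hψc (c g₁) rfl rfl, P.natural' g₂ _ _ hψc (c g₂) rfl rfl]
      refine (P.act_congr rfl (x' := g₂ ≫ G ≫ pullback.fst p d.a) ((Category.assoc _ _ _).symm.trans ((congrArg (· ≫ pullback.fst p d.a) e).trans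
        (Category.assoc _ _ _))) _ c₃).trans ?_
      refine Eq.trans ?_ (P.act_congr (key'.trans (Category.assoc _ _ _)) rfl ?_ (c g₂))
      · refine Eq.trans (P.act_congr (Category.assoc _ _ _).symm rfl _ ?_) (P.comp _ _ _ _ _ _).symm
        simpa using c₃
      · rw [key', Category.assoc]
        exact c g₂)
  have hι₁ : ι ≫ f = pullback.fst p d.a := by rw [← cancel_epi G, reassoc_of% hι, P.hom]
  have hι₂ : ι ≫ q = pullback.snd p d.a := by
    rw [← cancel_epi G, reassoc_of% hι, hcomm, Category.assoc, hprq, hω₂]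
  have hκι : κ ≫ ι = 𝟙 V := by
    let l : pullback (f ≫ p) (h ≫ p) ⟶ pullback (pullback.fst p d.a ≫ p) (h ≫ p) :=
      pullback.lift (π ≫ κ) y (by
        rw [Category.assoc, pullback.lift_fst_assoc]
        exact pullback.condition)
    have a₁ : l ≫ G = π ≫ κ := pullback.lift_fst _ _ _
    have b₁ : l ≫ yy = y := pullback.lift_snd _ _ _
    have hlω : l ≫ ω = ρ := by
      apply d.isPullback.hom_ext
      · rw [Category.assoc, hω₁, b₁, hρ₂]
      · rw [Category.assoc, hω₂, reassoc_of% a₁, pullback.lift_snd, hq]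
    rw [← cancel_epi π, Category.comp_id, ← reassoc_of% a₁, hι]
    have e' : (π ≫ f) ≫ p = (π ≫ f) ≫ p := rfl
    refine (P.natural' l _ _ hψc (v' := P.act π (y ≫ h) hπy) (x' := π ≫ f) ?_ ?_ ?_).trans ?_
    · rw [P.hom_p, ← hπy, Category.assoc]
    · rw [reassoc_of% hlω, hρ₁]
    · rw [reassoc_of% a₁, pullback.lift_fst]
    · exact (P.comp π (y ≫ h) (π ≫ f) hπy _ (Category.assoc _ _ _).symm).trans (P.self _ _)
  have : IsIso κ := ⟨ι, hκι, by
    apply pullback.hom_ext
    · rw [Category.assoc, pullback.lift_fst, Category.id_comp, hι₁]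
    · rw [Category.assoc, pullback.lift_snd, Category.id_comp, hι₂]⟩
  exact IsPullback.of_iso (IsPullback.of_hasPullback p d.a) (asIso κ).symm (Iso.refl _) (Iso.refl _)
    (Iso.refl _) ((Category.comp_id _).trans ((IsIso.eq_inv_comp κ).2 (pullback.lift_fst _ _ _)))
    ((Category.comp_id _).trans ((IsIso.eq_inv_comp κ).2 (pullback.lift_snd _ _ _)))
    (by simp) (by simp)

end Groth.L20.SchDesc
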