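import Groth.Agent.L20.SchDesc.Ind
import Groth.Agent.L20.SchDesc.Chart

/-!
# Fpqc descent of ind-quasi-affine morphisms

Descent data with ind-quasi-affine structure morphism are effective for fpqc coverings.
-/

set_option autoImplicit false
set_option linter.style.haveILetI false
set_option backward.isDefEq.respectTransparency.types false

universe u

open CategoryTheory Limits AlgebraicGeometry

namespace Groth.L20.SchDesc

variable {X S V : Scheme.{u}} {p : X ⟶ S} {f : V ⟶ X}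

/-- Over an affine base a covering is dominated by an affine faithfully flat one. -/
theorem exists_affine_chart [IsAffine S] [Cov p] :
    ∃ (Y : Scheme.{u}) (h : Y ⟶ X), IsAffine Y ∧ Flat (h ≫ p) ∧ Surjective (h ≫ p) := by
  obtain ⟨Y, Z, h, e, z, he, _, _, _, _, _, _⟩ := Cov.exists_chart (p := p)
  obtain ⟨Z₀, hZ₀c, hZ₀⟩ : ∃ Z₀ : Z.Opens, IsCompact (Z₀ : Set Z) ∧ z '' Z₀ = Set.univ := by
    obtain ⟨Z₀, h1, h2⟩ := z.isOpenMap.exists_opens_image_eq_of_prespectralSpace z.continuous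
      (by rw [z.surjective.range_eq]) isOpen_univ isCompact_univ
    exact ⟨Z₀, h1, h2⟩
  have hK : IsCompact ((e ⁻¹ᵁ Z₀ : Y.Opens) : Set Y) :=
    QuasiCompact.isCompact_preimage _ Z₀.2 hZ₀c
  have : CompactSpace (e ⁻¹ᵁ Z₀ : Y.Opens) := isCompact_iff_compactSpace.1 hK
  obtain ⟨Y', g, hg, hl, hY'⟩ :=
    Scheme.exists_hom_isAffine_of_isZariskiLocalAtSource @IsLocalIso (e ⁻¹ᵁ Z₀ : Y.Opens)
  have : Etale g := IsLocalIso.le_of_isZariskiLocalAtSource @Etale _ _ g hl
  refine ⟨Y', g ≫ (e ⁻¹ᵁ Z₀).ι ≫ h, hY', ?_, ⟨fun s => ?_⟩⟩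
  · rw [Category.assoc, Category.assoc, he]
    infer_instance
  · obtain ⟨w, hw, rfl⟩ : s ∈ z '' Z₀ := by rw [hZ₀]; trivial
    obtain ⟨y, rfl⟩ := e.surjective w
    obtain ⟨y', hy'⟩ := g.surjective ⟨y, hw⟩
    refine ⟨y', ?_⟩
    rw [Category.assoc, Category.assoc, he, Scheme.Hom.comp_apply, hy']
    rfl

theorem isIndQuasiAffine_of_isAffine_target (hf : MoreMor.IsIndQuasiAffineHom f) [IsAffine X] :
    MoreMor.IsIndQuasiAffine V := fun U hU =>
  (Groth.L20.isIndQuasiAffineHom_iff f).1 hf ⊤ (isAffineOpen_top X) U (fun _ _ => trivial) hU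

theorem effective_of_isIndQuasiAffineHom_of_isAffine [IsAffine S] [Cov p]
    (hf : MoreMor.IsIndQuasiAffineHom f) (P : Pre p f) : Effective P := by
  obtain ⟨Y, h, hY, _, _⟩ := exists_affine_chart (p := p)
  have : IsAffineHom (h ≫ p) := isAffineHom_of_isAffine _
  have hf' : MoreMor.IsIndQuasiAffineHom (pullback.snd f h) :=
    Groth.L20.isIndQuasiAffineHom_of_isPullback (IsPullback.of_hasPullback f h) hf
  exact effective_of_chart P h
    (effective_of_isIndQuasiAffine _ (isIndQuasiAffine_of_isAffine_target hf'))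

/-- Descent data with ind-quasi-affine structure morphism are effective. -/
theorem effective_of_isIndQuasiAffineHom [Cov p] (hf : MoreMor.IsIndQuasiAffineHom f)
    (P : Pre p f) : Effective P := by
  refine effective_of_cover P fun v => ?_
  obtain ⟨W, hW, hv, -⟩ :=
    exists_isAffineOpen_mem_and_subset (X := S) (x := p (f v)) (U := ⊤) trivial
  have hO : Stable P (f ⁻¹ᵁ p ⁻¹ᵁ W) := by
    intro T w x e hw
    rintro _ ⟨t, rfl⟩
    show p (f (P.act w x e t)) ∈ W
    have h1 : (P.act w x e ≫ f ≫ p) t = (w ≫ f ≫ p) t := by rw [P.hom_p, e]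
    simp only [Scheme.Hom.comp_apply] at h1
    rw [h1]
    exact hw ⟨t, rfl⟩
  refine ⟨f ⁻¹ᵁ p ⁻¹ᵁ W, hv, hO, ?_⟩
  have : IsAffine W := hW
  have : Cov (p ∣_ W) := Cov.of_isPullback (isPullback_morphismRestrict p W).flip
  exact effective_of_ofBase _ (isPullback_morphismRestrict p W).flip (f' := f ∣_ p ⁻¹ᵁ W)
    (morphismRestrict_ι f _) (effective_of_isIndQuasiAffineHom_of_isAffine
      (Groth.L20.isIndQuasiAffineHom_of_isPullback
        (isPullback_morphismRestrict f (p ⁻¹ᵁ W)).flip hf) _)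

end Groth.L20.SchDesc
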