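import Groth.Agent.L20.SchDesc.Hull
import Mathlib.AlgebraicGeometry.Morphisms.UniversallyOpen
import Mathlib.RingTheory.Spectrum.Prime.Topology

/-!
# Orbits of a descent datum

For an open `W` of the total space, the points whose orbit stays away from the closure of the orbit
of the complement form the largest stable open inside `W`.
-/

set_option autoImplicit false
set_option linter.style.haveILetI false
set_option backward.isDefEq.respectTransparency.types false

universe u

open CategoryTheory Limits AlgebraicGeometry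

namespace Groth.L20.SchDesc

/-- A point of the closure of the image of a closed set under an affine morphism is a
specialisation of a point of the image. -/
theorem exists_specializes_of_mem_closure_image {A B : Scheme.{u}} (g : A ⟶ B) [IsAffineHom g]
    {C : Set A} (hC : IsClosed C) {y : B} (hy : y ∈ closure (g '' C)) :
    ∃ c ∈ C, g c ⤳ y := by
  obtain ⟨N, hN, hyN, -⟩ :=
    exists_isAffineOpen_mem_and_subset (X := B) (x := y) (U := ⊤) trivial
  have hP : IsAffineOpen (g ⁻¹ᵁ N) := hN.preimage g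
  let φ := g.appLE N (g ⁻¹ᵁ N) le_rfl
  have hcomm : ∀ w, hN.fromSpec (Spec.map φ w) = g (hP.fromSpec w) := fun w => by
    rw [← Scheme.Hom.comp_apply, ← Scheme.Hom.comp_apply, IsAffineOpen.SpecMap_appLE_fromSpec]
  obtain ⟨y', rfl⟩ : y ∈ Set.range hN.fromSpec := by rw [hN.range_fromSpec]; exact hyN
  have hpre : hN.fromSpec ⁻¹' (g '' C) ⊆ Spec.map φ '' (hP.fromSpec ⁻¹' C) := by
    rintro x ⟨a, ha, hax⟩
    have hmem : a ∈ g ⁻¹ᵁ N := by
      show g a ∈ N
      rw [hax, ← SetLike.mem_coe, ← hN.range_fromSpec]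
      exact Set.mem_range_self x
    obtain ⟨w, rfl⟩ : a ∈ Set.range hP.fromSpec := by rw [hP.range_fromSpec]; exact hmem
    exact ⟨w, ha, hN.fromSpec.isOpenEmbedding.injective ((hcomm w).trans hax)⟩
  have hy' : y' ∈ closure (Spec.map φ '' (hP.fromSpec ⁻¹' C)) := by
    refine closure_mono hpre ?_
    rw [← hN.fromSpec.isOpenEmbedding.isOpenMap.preimage_closure_eq_closure_preimage
      hN.fromSpec.continuous]
    exact hy
  obtain ⟨I, hI⟩ :=
    (PrimeSpectrum.isClosed_iff_zeroLocus_ideal _).1 (hC.preimage hP.fromSpec.continuous)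
  rw [hI] at hy'
  change y' ∈ closure (PrimeSpectrum.comap φ.hom '' _) at hy'
  rw [PrimeSpectrum.closure_image_comap_zeroLocus] at hy'
  obtain ⟨q, hq₁, hq₂⟩ := Ideal.exists_minimalPrimes_le (J := y'.asIdeal) hy'
  obtain ⟨p', hp', hIp', rfl⟩ := Ideal.exists_comap_eq_of_mem_minimalPrimes φ.hom _ hq₁
  refine ⟨hP.fromSpec ⟨p', hp'⟩, ?_, ?_⟩
  · show (⟨p', hp'⟩ : PrimeSpectrum _) ∈ hP.fromSpec ⁻¹' C
    rw [hI]
    exact hIp'
  · rw [← hcomm]
    refine Specializes.map ?_ hN.fromSpec.continuous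
    exact (PrimeSpectrum.le_iff_specializes _ _).1 hq₂

variable {X S V : Scheme.{u}} {p : X ⟶ S} {f : V ⟶ X} (P : Pre p f)

/-- Two points related by the action. -/
def Orbit (v w : V) : Prop := ∃ r : Pairs p f, src p f r = v ∧ P.map r = w

theorem orbit_refl (v : V) : Orbit P v v := by
  refine ⟨pullback.lift (f := f ≫ p) (g := p) (𝟙 V) f (Category.id_comp _) v, ?_, ?_⟩
  · rw [← Scheme.Hom.comp_apply, pullback.lift_fst]; rfl
  · rw [← Scheme.Hom.comp_apply, P.map_self]; rfl

theorem flip_cond : P.map ≫ f ≫ p = (src p f ≫ f) ≫ p :=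
  ((P.hom_p _ _ _).trans pairs_cond.symm).trans (Category.assoc _ _ _).symm

/-- The involution exchanging source and target. -/
noncomputable def Pre.flip : Pairs p f ⟶ Pairs p f :=
  pullback.lift P.map (src p f ≫ f) (flip_cond P)

theorem flip_src : P.flip ≫ src p f = P.map := pullback.lift_fst _ _ _

theorem flip_map : P.flip ≫ P.map = src p f := by
  rw [Pre.flip, ← P.act_eq_map]
  exact (P.comp _ _ _ _ _ (Category.assoc _ _ _).symm).trans (P.self _ _)

theorem flip_flip : P.flip ≫ P.flip = 𝟙 _ := by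
  apply pullback.hom_ext
  · rw [Category.assoc, flip_src, flip_map, Category.id_comp]
  · rw [Category.assoc, Pre.flip, pullback.lift_snd, ← Category.assoc, pullback.lift_fst,
      Category.id_comp, P.map_f]

theorem flat_map [Flat p] : Flat P.map := by
  have : IsIso P.flip := ⟨P.flip, flip_flip P, flip_flip P⟩
  rw [← flip_src P]
  have : Flat (src p f) := MorphismProperty.pullback_fst _ _ inferInstance
  infer_instance

theorem Orbit.symm {v w : V} (h : Orbit P v w) : Orbit P w v := by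
  obtain ⟨r, hr, hr'⟩ := h
  refine ⟨P.flip r, ?_, ?_⟩
  · rw [← Scheme.Hom.comp_apply, flip_src, hr']
  · rw [← Scheme.Hom.comp_apply, flip_map, hr]

theorem Orbit.trans {u v w : V} (h₁ : Orbit P u v) (h₂ : Orbit P v w) : Orbit P u w := by
  obtain ⟨r₁, hu, hv⟩ := h₁
  obtain ⟨r₂, hv', hw⟩ := h₂
  obtain ⟨z, hz₁, hz₂⟩ := Scheme.Pullback.exists_preimage_pullback (f := P.map) (g := src p f) r₁ r₂
    (hv.trans hv'.symm)
  let a := pullback.fst P.map (src p f)
  let b := pullback.snd P.map (src p f)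
  have hab : a ≫ P.map = b ≫ src p f := pullback.condition
  have c₂ : (b ≫ src p f) ≫ f ≫ p = (b ≫ pt p f) ≫ p := by
    rw [Category.assoc, pairs_cond, ← Category.assoc]
  have c₁ : (a ≫ src p f) ≫ f ≫ p = (a ≫ pt p f) ≫ p := by
    rw [Category.assoc, pairs_cond, ← Category.assoc]
  have c : (a ≫ src p f) ≫ f ≫ p = (b ≫ pt p f) ≫ p := by
    rw [← c₂, ← hab, Category.assoc, Category.assoc, P.hom_p, pairs_cond]
  refine ⟨pullback.lift (f := f ≫ p) (g := p) (a ≫ src p f) (b ≫ pt p f) c z, ?_, ?_⟩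
  · rw [← Scheme.Hom.comp_apply, pullback.lift_fst, Scheme.Hom.comp_apply, hz₁, hu]
  · rw [← Scheme.Hom.comp_apply, ← P.act_eq_map]
    have key : P.act (a ≫ src p f) (b ≫ pt p f) c = b ≫ P.map := by
      rw [P.natural' b _ _ pairs_cond c₂ rfl rfl]
      refine ((P.act_congr (hab.symm.trans (P.natural' a _ _ pairs_cond c₁ rfl rfl)) rfl _ ?_).trans
        (P.comp _ _ _ _ _ _)).symm
      rw [P.hom_p, ← c₁, c]
    rw [key, Scheme.Hom.comp_apply, hz₂, hw]

theorem orbit_act {T : Scheme.{u}} (v : T ⟶ V) (x : T ⟶ X) (h : v ≫ f ≫ p = x ≫ p) (t : T) :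
    Orbit P (v t) (P.act v x h t) := by
  refine ⟨pullback.lift (f := f ≫ p) (g := p) v x h t, ?_, ?_⟩
  · rw [← Scheme.Hom.comp_apply, pullback.lift_fst]
  · rw [← Scheme.Hom.comp_apply, ← P.act_eq_map]

theorem stable_of_orbit {O : V.Opens} (h : ∀ v w, Orbit P v w → v ∈ O → w ∈ O) : Stable P O := by
  intro T v x e hv
  rintro _ ⟨t, rfl⟩
  exact h _ _ (orbit_act P v x e t) (hv ⟨t, rfl⟩)

theorem orbit_mem_of_stable {O : V.Opens} (h : Stable P O) {v w : V} (hvw : Orbit P v w)
    (hv : v ∈ O) : w ∈ O := by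
  obtain ⟨r, hr, rfl⟩ := hvw
  let T : (Pairs p f).Opens := src p f ⁻¹ᵁ O
  have hT : r ∈ T := by show src p f r ∈ O; rw [hr]; exact hv
  have c : (T.ι ≫ src p f) ≫ f ≫ p = (T.ι ≫ pt p f) ≫ p := by
    rw [Category.assoc, pairs_cond, ← Category.assoc]
  have hh := h _ _ _ c (by rintro _ ⟨t, rfl⟩; exact t.2)
  rw [← P.natural' T.ι _ _ pairs_cond c rfl rfl] at hh
  exact hh ⟨⟨r, hT⟩, rfl⟩

/-- The largest stable open inside `W`. -/
noncomputable def coreOpen (W : V.Opens) : V.Opens :=
  ⟨(closure (src p f '' (P.map ⁻¹' (W : Set V)ᶜ)))ᶜ, isClosed_closure.isOpen_compl⟩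

theorem orbit_mem_of_mem_core {W : V.Opens} {v w : V} (h : Orbit P v w) (hv : v ∈ coreOpen P W) :
    w ∈ W := by
  obtain ⟨r, rfl, rfl⟩ := h
  by_contra hw
  exact hv (subset_closure ⟨r, hw, rfl⟩)

theorem core_le (W : V.Opens) : coreOpen P W ≤ W := fun v hv =>
  orbit_mem_of_mem_core P (orbit_refl P v) hv

/-- An open all of whose orbits lie in `W` is inside the core of `W`. -/
theorem le_core {W M : V.Opens} (h : ∀ v w, Orbit P v w → v ∈ M → w ∈ W) : M ≤ coreOpen P W := by
  intro v hv hc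
  obtain ⟨u, huM, r, hr, rfl⟩ := mem_closure_iff.1 hc M M.2 hv
  exact hr (h _ _ ⟨r, rfl, rfl⟩ huM)

theorem stable_core [Flat p] [IsAffineHom p] (W : V.Opens) : Stable P (coreOpen P W) := by
  have : IsAffineHom (src p f) := MorphismProperty.pullback_fst _ _ inferInstance
  have := flat_map P
  refine stable_of_orbit P fun v w hvw hv hw => ?_
  obtain ⟨c, hc, hcw⟩ := exists_specializes_of_mem_closure_image (src p f)
    ((W.2.isClosed_compl).preimage P.map.continuous) hw
  obtain ⟨r, hrv, hrw⟩ := hvw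
  obtain ⟨r', hr', hr'c⟩ := Flat.generalizingMap (f := P.map) (hrw.symm ▸ hcw : src p f c ⤳ P.map r)
  have hs : src p f r' ∈ coreOpen P W := by
    have := Specializes.map hr' (src p f).continuous
    rw [hrv] at this
    exact this.mem_open (coreOpen P W).2 hv
  exact hc (orbit_mem_of_mem_core P (Orbit.trans P ⟨r', rfl, hr'c⟩ ⟨c, rfl, rfl⟩) hs)

end Groth.L20.SchDesc
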