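import Mathlib.AlgebraicGeometry.Morphisms.Flat
import Mathlib.AlgebraicGeometry.Morphisms.UniversallyOpen
import Mathlib.AlgebraicGeometry.Sites.Fpqc
import Mathlib.AlgebraicGeometry.PullbackCarrier
import Mathlib.CategoryTheory.Limits.Shapes.Pullback.IsPullback.Basic

/-!
# Flat coverings of fpqc type

A flat surjection covers in the fpqc topology if it is dominated by a faithfully flat quasi-compact
morphism followed by a faithfully flat morphism locally of finite presentation.
-/

set_option autoImplicit false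
set_option linter.style.haveILetI false
set_option backward.isDefEq.respectTransparency.types false

universe u

open CategoryTheory Limits AlgebraicGeometry

namespace Groth.L20.SchDesc

/-- A flat surjection which is a covering for the fpqc topology. -/
class Cov {X S : Scheme.{u}} (p : X ⟶ S) : Prop where
  flat : Flat p
  surjective : Surjective p
  exists_chart : ∃ (Y Z : Scheme.{u}) (h : Y ⟶ X) (e : Y ⟶ Z) (z : Z ⟶ S), h ≫ p = e ≫ z ∧
    Flat e ∧ Surjective e ∧ QuasiCompact e ∧ Flat z ∧ Surjective z ∧ LocallyOfFinitePresentation z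

variable {X S : Scheme.{u}} {p : X ⟶ S}

instance (priority := 100) Cov.of_quasiCompact [Flat p] [Surjective p] [QuasiCompact p] : Cov p :=
  ⟨inferInstance, inferInstance, X, S, 𝟙 X, p, 𝟙 S, by simp, inferInstance, inferInstance,
    inferInstance, inferInstance, inferInstance, inferInstance⟩

theorem Cov.of_isPullback [Cov p] {V U : Scheme.{u}} {f : V ⟶ X} {q : V ⟶ U} {a : U ⟶ S}
    (H : IsPullback f q p a) : Cov q := by
  obtain ⟨Y, Z, h, e, z, he, hef, hes, heq, hzf, hzs, hzl⟩ := Cov.exists_chart (p := p)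
  have := Cov.flat (p := p)
  have := Cov.surjective (p := p)
  refine ⟨MorphismProperty.of_isPullback H inferInstance,
    MorphismProperty.of_isPullback H inferInstance,
    pullback e (pullback.fst z a), pullback z a,
    H.lift (pullback.fst e (pullback.fst z a) ≫ h)
      (pullback.snd e (pullback.fst z a) ≫ pullback.snd z a) ?_,
    pullback.snd e (pullback.fst z a), pullback.snd z a, H.lift_snd _ _ _,
    MorphismProperty.pullback_snd _ _ hef, MorphismProperty.pullback_snd _ _ hes,
    MorphismProperty.pullback_snd _ _ heq, MorphismProperty.pullback_snd _ _ hzf,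
    MorphismProperty.pullback_snd _ _ hzs, MorphismProperty.pullback_snd _ _ hzl⟩
  rw [Category.assoc, he, pullback.condition_assoc, pullback.condition, Category.assoc]

variable [Cov p]

variable (p) in
/-- A flat covering is a quotient map. -/
theorem Cov.isQuotientMap : Topology.IsQuotientMap p := by
  obtain ⟨Y, Z, h, e, z, he, _, _, _, _, _, _⟩ := Cov.exists_chart (p := p)
  have := Cov.surjective (p := p)
  rw [Topology.isQuotientMap_iff]
  refine ⟨.of_isOpen_preimage_iff_isOpen fun s =>
    ⟨fun hs => ?_, fun hs => hs.preimage p.continuous⟩, p.surjective⟩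
  have h1 : IsOpen (e ⁻¹' (z ⁻¹' s)) := by
    have : e ⁻¹' (z ⁻¹' s) = h ⁻¹' (p ⁻¹' s) := by
      ext y
      show z (e y) ∈ s ↔ p (h y) ∈ s
      rw [← Scheme.Hom.comp_apply, ← Scheme.Hom.comp_apply, he]
    rw [this]
    exact hs.preimage h.continuous
  rw [(Flat.isQuotientMap_of_surjective e).isOpen_preimage,
    (z.isOpenMap.isQuotientMap z.continuous z.surjective).isOpen_preimage] at h1
  exact h1

variable (p) in
theorem Cov.epi : Epi p := by
  have := Cov.surjective (p := p)
  have := Cov.flat (p := p)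
  exact Flat.epi_of_flat_of_surjective p

/-- A morphism constant on the fibres of a flat covering factors through it. -/
theorem Cov.exists_desc {W : Scheme.{u}} (φ : X ⟶ W)
    (hφ : ∀ {T : Scheme.{u}} (g₁ g₂ : T ⟶ X), g₁ ≫ p = g₂ ≫ p → g₁ ≫ φ = g₂ ≫ φ) :
    ∃ m : S ⟶ W, p ≫ m = φ := by
  obtain ⟨Y, Z, h, e, z, he, _, _, _, _, _, _⟩ := Cov.exists_chart (p := p)
  have hinv : ∀ {T : Scheme.{u}} (g₁ g₂ : T ⟶ Y), g₁ ≫ e ≫ z = g₂ ≫ e ≫ z →
      g₁ ≫ h ≫ φ = g₂ ≫ h ≫ φ := by
    intro T g₁ g₂ hg
    have := hφ (g₁ ≫ h) (g₂ ≫ h) (by rw [Category.assoc, Category.assoc, he, hg])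
    simpa using this
  let m₁ : Z ⟶ W := EffectiveEpi.desc e (h ≫ φ) fun g₁ g₂ hg => hinv g₁ g₂ (by
    rw [← Category.assoc, hg, Category.assoc])
  have hm₁ : e ≫ m₁ = h ≫ φ := EffectiveEpi.fac _ _ _
  have hm₁' : ∀ {T : Scheme.{u}} (g₁ g₂ : T ⟶ Z), g₁ ≫ z = g₂ ≫ z → g₁ ≫ m₁ = g₂ ≫ m₁ := by
    intro T g₁ g₂ hg
    let e₁ := pullback.snd e g₁
    have : Flat e₁ := MorphismProperty.pullback_snd _ _ inferInstance
    have : Surjective e₁ := MorphismProperty.pullback_snd _ _ inferInstance
    let e₂ := pullback.snd e (e₁ ≫ g₂)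
    have : Flat e₂ := MorphismProperty.pullback_snd _ _ inferInstance
    have : Surjective e₂ := MorphismProperty.pullback_snd _ _ inferInstance
    have := Flat.epi_of_flat_of_surjective e₁
    have := Flat.epi_of_flat_of_surjective e₂
    have h₁ : (e₂ ≫ pullback.fst e g₁) ≫ e = e₂ ≫ e₁ ≫ g₁ := by
      rw [Category.assoc, pullback.condition]
    have h₂ : pullback.fst e (e₁ ≫ g₂) ≫ e = e₂ ≫ e₁ ≫ g₂ := pullback.condition
    rw [← cancel_epi e₁, ← cancel_epi e₂, ← reassoc_of% h₁, ← reassoc_of% h₂, hm₁]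
    have hc : (e₂ ≫ pullback.fst e g₁) ≫ e ≫ z = pullback.fst e (e₁ ≫ g₂) ≫ e ≫ z := by
      rw [← Category.assoc, h₁, ← Category.assoc (pullback.fst e _), h₂]
      simp only [Category.assoc, hg]
    simpa using hinv _ _ hc
  refine ⟨EffectiveEpi.desc z m₁ hm₁', ?_⟩
  have hm : h ≫ p ≫ EffectiveEpi.desc z m₁ hm₁' = h ≫ φ := by
    rw [reassoc_of% he, EffectiveEpi.fac, hm₁]
  let r := pullback.fst p (h ≫ p)
  have : Flat (h ≫ p) := by rw [he]; infer_instance
  have : Surjective (h ≫ p) := by rw [he]; infer_instance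
  have : Flat r := MorphismProperty.pullback_fst _ _ inferInstance
  have : Surjective r := MorphismProperty.pullback_fst _ _ inferInstance
  have := Flat.epi_of_flat_of_surjective r
  have hr : r ≫ p = (pullback.snd p (h ≫ p) ≫ h) ≫ p := by
    rw [Category.assoc, pullback.condition]
  rw [← cancel_epi r, reassoc_of% hr, hm, hφ _ _ hr, Category.assoc]

end Groth.L20.SchDesc
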