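import Groth.Agent.L20.SchDesc.Main
import Groth.Agent.L20.SchDesc.Sigma
import Groth.Prelude.Def_DescFam

/-!
# Descent data relative to a family as data relative to the sum

A datum relative to `f i : X i ⟶ S` gives a datum relative to `∐ X i ⟶ S` on the sum of its
schemes; effectivity of the latter gives effectivity of the former.
-/

set_option autoImplicit false
set_option linter.style.haveILetI false
set_option backward.isDefEq.respectTransparency.types false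

universe u

open CategoryTheory Limits AlgebraicGeometry TopologicalSpace

namespace Groth.L20.SchDesc

variable {S : Scheme.{u}} {κ : Type u} {X : κ → Scheme.{u}} {f : ∀ i, X i ⟶ S}
  (D : Desc.SchDDFam f)

/-- The sum of the schemes of a datum. -/
noncomputable abbrev famTot : Scheme.{u} := ∐ fun i => (D.obj i).left

/-- The structure map of the sum. -/
noncomputable abbrev famHom : famTot D ⟶ ∐ X := Limits.Sigma.map fun i => (D.obj i).hom

/-- The inclusion of a summand. -/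
noncomputable abbrev famι (i : κ) : (D.obj i).left ⟶ famTot D :=
  Sigma.ι (fun i => (D.obj i).left) i

theorem famι_hom (i : κ) : famι D i ≫ famHom D = (D.obj i).hom ≫ Sigma.ι X i := Sigma.ι_map _ i

theorem fam_cond {T : Scheme.{u}} {i j : κ} {v : T ⟶ famTot D} {x : T ⟶ ∐ X}
    (h : v ≫ famHom D ≫ Sigma.desc f = x ≫ Sigma.desc f) {T' : Scheme.{u}} {g : T' ⟶ T}
    {v' : T' ⟶ (D.obj i).left} {x' : T' ⟶ X j} (hv : v' ≫ famι D i = g ≫ v)
    (hx : x' ≫ Sigma.ι X j = g ≫ x) : (v' ≫ (D.obj i).hom) ≫ f i = x' ≫ f j := by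
  have h1 : (v' ≫ (D.obj i).hom) ≫ f i = g ≫ v ≫ famHom D ≫ Sigma.desc f := by
    rw [← reassoc_of% hv, reassoc_of% (famι_hom D i), Sigma.ι_desc, Category.assoc]
  rw [h1, h, ← reassoc_of% hx, Sigma.ι_desc]

/-- `w` is the point over `x` corresponding to `v`. -/
def Rel {T : Scheme.{u}} (v : T ⟶ famTot D) (x : T ⟶ ∐ X) (w : T ⟶ famTot D) : Prop :=
  ∀ ⦃T' : Scheme.{u}⦄ (g : T' ⟶ T) (i j : κ) (v' : T' ⟶ (D.obj i).left) (x' : T' ⟶ X j)
    (hh : (v' ≫ (D.obj i).hom) ≫ f i = x' ≫ f j),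
    v' ≫ famι D i = g ≫ v → x' ≫ Sigma.ι X j = g ≫ x →
      g ≫ w = (D.φ (v' ≫ (D.obj i).hom) x' hh ⟨v', rfl⟩).1 ≫ famι D j

section pieces

variable {T : Scheme.{u}} (v : T ⟶ famTot D) (x : T ⟶ ∐ X)

/-- The open of points with given summands. -/
noncomputable def piece (k : κ × κ) : T.Opens :=
  v ⁻¹ᵁ (famι D k.1).opensRange ⊓ x ⁻¹ᵁ (Sigma.ι X k.2).opensRange

theorem isOpenCover_piece : IsOpenCover (piece D v x) :=
  IsOpenCover.mk (eq_top_iff.2 fun t _ => by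
    obtain ⟨i, a, ha⟩ := exists_sigmaι_eq (v t)
    obtain ⟨j, b, hb⟩ := exists_sigmaι_eq (x t)
    exact Opens.mem_iSup.2 ⟨(i, j), ⟨a, ha⟩, ⟨b, hb⟩⟩)

/-- The lift of `v` on a piece. -/
noncomputable def pieceV (k : κ × κ) : (piece D v x k).toScheme ⟶ (D.obj k.1).left :=
  IsOpenImmersion.lift (famι D k.1) ((piece D v x k).ι ≫ v)
    (by rintro _ ⟨t, rfl⟩; exact t.2.1)

/-- The lift of `x` on a piece. -/
noncomputable def pieceX (k : κ × κ) : (piece D v x k).toScheme ⟶ X k.2 :=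
  IsOpenImmersion.lift (Sigma.ι X k.2) ((piece D v x k).ι ≫ x)
    (by rintro _ ⟨t, rfl⟩; exact t.2.2)

theorem pieceV_ι (k : κ × κ) : pieceV D v x k ≫ famι D k.1 = (piece D v x k).ι ≫ v :=
  IsOpenImmersion.lift_fac _ _ _

theorem pieceX_ι (k : κ × κ) : pieceX D v x k ≫ Sigma.ι X k.2 = (piece D v x k).ι ≫ x :=
  IsOpenImmersion.lift_fac _ _ _

theorem isEmpty_of_ne {T' : Scheme.{u}} (g : T' ⟶ T) {i i' j j' : κ} (v₁ : T' ⟶ (D.obj i).left)
    (v₂ : T' ⟶ (D.obj i').left) (x₁ : T' ⟶ X j) (x₂ : T' ⟶ X j')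
    (hv₁ : v₁ ≫ famι D i = g ≫ v) (hv₂ : v₂ ≫ famι D i' = g ≫ v)
    (hx₁ : x₁ ≫ Sigma.ι X j = g ≫ x) (hx₂ : x₂ ≫ Sigma.ι X j' = g ≫ x)
    (hne : ¬ (i = i' ∧ j = j')) : IsEmpty T' := by
  refine ⟨fun t => hne ⟨?_, ?_⟩⟩
  · refine eq_of_sigmaι_eq (A := fun i => (D.obj i).left) (a := v₁ t) (b := v₂ t) ?_
    rw [← Scheme.Hom.comp_apply, ← Scheme.Hom.comp_apply]
    exact congrArg (fun m : T' ⟶ famTot D => m t) (hv₁.trans hv₂.symm)
  · refine eq_of_sigmaι_eq (A := X) (a := x₁ t) (b := x₂ t) ?_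
    rw [← Scheme.Hom.comp_apply, ← Scheme.Hom.comp_apply]
    exact congrArg (fun m : T' ⟶ ∐ X => m t) (hx₁.trans hx₂.symm)

theorem value_eq {T' : Scheme.{u}} (g : T' ⟶ T) {i i' j j' : κ} (v₁ : T' ⟶ (D.obj i).left)
    (v₂ : T' ⟶ (D.obj i').left) (x₁ : T' ⟶ X j) (x₂ : T' ⟶ X j')
    (hv₁ : v₁ ≫ famι D i = g ≫ v) (hv₂ : v₂ ≫ famι D i' = g ≫ v)
    (hx₁ : x₁ ≫ Sigma.ι X j = g ≫ x) (hx₂ : x₂ ≫ Sigma.ι X j' = g ≫ x) (h₁) (h₂) :
    (D.φ (v₁ ≫ (D.obj i).hom) x₁ h₁ ⟨v₁, rfl⟩).1 ≫ famι D j =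
      (D.φ (v₂ ≫ (D.obj i').hom) x₂ h₂ ⟨v₂, rfl⟩).1 ≫ famι D j' := by
  by_cases hne : i = i' ∧ j = j'
  · obtain ⟨rfl, rfl⟩ := hne
    obtain rfl : v₁ = v₂ := (cancel_mono _).1 (hv₁.trans hv₂.symm)
    obtain rfl : x₁ = x₂ := (cancel_mono _).1 (hx₁.trans hx₂.symm)
    rfl
  · have := isEmpty_of_ne D v x g v₁ v₂ x₁ x₂ hv₁ hv₂ hx₁ hx₂ hne
    exact isInitialOfIsEmpty.hom_ext _ _

variable {v x}

theorem φ_comp_left {T T' : Scheme.{u}} (g : T' ⟶ T) {i j : κ} (v₀ : T ⟶ (D.obj i).left)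
    (x₀ : T ⟶ X j) (h : (v₀ ≫ (D.obj i).hom) ≫ f i = x₀ ≫ f j)
    (h' : ((g ≫ v₀) ≫ (D.obj i).hom) ≫ f i = (g ≫ x₀) ≫ f j) :
    (D.φ ((g ≫ v₀) ≫ (D.obj i).hom) (g ≫ x₀) h' ⟨g ≫ v₀, rfl⟩).1 =
      g ≫ (D.φ (v₀ ≫ (D.obj i).hom) x₀ h ⟨v₀, rfl⟩).1 :=
  D.φ_natural g (v₀ ≫ (D.obj i).hom) x₀ h _ _ (Category.assoc _ _ _).symm rfl h' ⟨v₀, rfl⟩ _ rfl

theorem exists_rel (h : v ≫ famHom D ≫ Sigma.desc f = x ≫ Sigma.desc f) : ∃ w, Rel D v x w := by
  let 𝒰 := T.openCoverOfIsOpenCover _ (isOpenCover_piece D v x)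
  have hc : ∀ k : κ × κ, (pieceV D v x k ≫ (D.obj k.1).hom) ≫ f k.1 = pieceX D v x k ≫ f k.2 :=
    fun k => fam_cond D h (pieceV_ι D v x k) (pieceX_ι D v x k)
  let val (k : κ × κ) : (piece D v x k).toScheme ⟶ famTot D :=
    (D.φ _ _ (hc k) ⟨pieceV D v x k, rfl⟩).1 ≫ famι D k.2
  have hglue : ∀ k l, pullback.fst (piece D v x k).ι (piece D v x l).ι ≫ val k =
      pullback.snd (piece D v x k).ι (piece D v x l).ι ≫ val l := by
    intro k l
    let a := pullback.fst (piece D v x k).ι (piece D v x l).ι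
    let b := pullback.snd (piece D v x k).ι (piece D v x l).ι
    have hab : a ≫ (piece D v x k).ι = b ≫ (piece D v x l).ι := pullback.condition
    have hk : ((a ≫ pieceV D v x k) ≫ (D.obj k.1).hom) ≫ f k.1 =
        (a ≫ pieceX D v x k) ≫ f k.2 := by
      rw [Category.assoc, Category.assoc, Category.assoc, ← hc k, Category.assoc]
    have hl : ((b ≫ pieceV D v x l) ≫ (D.obj l.1).hom) ≫ f l.1 =
        (b ≫ pieceX D v x l) ≫ f l.2 := by
      rw [Category.assoc, Category.assoc, Category.assoc, ← hc l, Category.assoc]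
    rw [← Category.assoc, ← Category.assoc,
      ← φ_comp_left D a (pieceV D v x k) (pieceX D v x k) (hc k) hk,
      ← φ_comp_left D b (pieceV D v x l) (pieceX D v x l) (hc l) hl]
    refine value_eq D v x (a ≫ (piece D v x k).ι) _ _ _ _ ?_ ?_ ?_ ?_ _ _
    · rw [Category.assoc, pieceV_ι, Category.assoc]
    · rw [Category.assoc, pieceV_ι, ← Category.assoc, hab]
    · rw [Category.assoc, pieceX_ι, Category.assoc]
    · rw [Category.assoc, pieceX_ι, ← Category.assoc, hab]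
  refine ⟨𝒰.glueMorphisms val hglue, fun T' g i j v' x' hh hv hx => ?_⟩
  have hval : (piece D v x (i, j)).ι ≫ 𝒰.glueMorphisms val hglue = val (i, j) :=
    𝒰.ι_glueMorphisms val hglue (i, j)
  let l : T' ⟶ (piece D v x (i, j)).toScheme :=
    IsOpenImmersion.lift (piece D v x (i, j)).ι g (by
      rw [Scheme.Opens.range_ι]
      rintro _ ⟨t, rfl⟩
      exact ⟨⟨v' t, congrArg (fun m : T' ⟶ famTot D => m t) hv⟩,
        ⟨x' t, congrArg (fun m : T' ⟶ ∐ X => m t) hx⟩⟩)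
  have hl : l ≫ (piece D v x (i, j)).ι = g := IsOpenImmersion.lift_fac _ _ _
  have hh' : ((l ≫ pieceV D v x (i, j)) ≫ (D.obj i).hom) ≫ f i =
      (l ≫ pieceX D v x (i, j)) ≫ f j := by
    rw [Category.assoc, Category.assoc, Category.assoc, ← hc (i, j), Category.assoc]
  conv_lhs => rw [← hl, Category.assoc, hval]
  rw [← Category.assoc, ← φ_comp_left D l (pieceV D v x (i, j)) (pieceX D v x (i, j)) (hc _) hh']
  refine value_eq D v x g _ _ _ _ ?_ hv ?_ hx _ _
  · rw [Category.assoc, pieceV_ι, reassoc_of% hl]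
  · rw [Category.assoc, pieceX_ι, reassoc_of% hl]

theorem rel_unique (h : v ≫ famHom D ≫ Sigma.desc f = x ≫ Sigma.desc f) {w w' : T ⟶ famTot D}
    (hw : Rel D v x w) (hw' : Rel D v x w') : w = w' := by
  refine Scheme.Cover.hom_ext (T.openCoverOfIsOpenCover _ (isOpenCover_piece D v x)) _ _
    fun (k : κ × κ) => ?_
  have hc := fam_cond D h (pieceV_ι D v x k) (pieceX_ι D v x k)
  exact (hw _ _ _ _ _ hc (pieceV_ι D v x k) (pieceX_ι D v x k)).trans
    (hw' _ _ _ _ _ hc (pieceV_ι D v x k) (pieceX_ι D v x k)).symm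

end pieces

/-- The datum relative to the sum. -/
noncomputable def famPre : Pre (Sigma.desc f) (famHom D) where
  act v x h := (exists_rel D h).choose
  hom {T} v x h := by
    have hw := (exists_rel D h).choose_spec
    refine Scheme.Cover.hom_ext (T.openCoverOfIsOpenCover _ (isOpenCover_piece D v x)) _ _
      fun (k : κ × κ) => ?_
    show (piece D v x k).ι ≫ _ ≫ famHom D = (piece D v x k).ι ≫ x
    have hc := fam_cond D h (pieceV_ι D v x k) (pieceX_ι D v x k)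
    rw [← Category.assoc, hw _ _ _ _ _ hc (pieceV_ι D v x k) (pieceX_ι D v x k), Category.assoc,
      famι_hom, ← Category.assoc, (D.φ _ _ hc ⟨pieceV D v x k, rfl⟩).2, pieceX_ι]
  natural g v x h h' := by
    refine rel_unique D h' (exists_rel D h').choose_spec fun T' g' i j v' x' hh hv hx => ?_
    rw [← Category.assoc]
    exact (exists_rel D h).choose_spec (g' ≫ g) i j v' x' hh (by rw [hv, Category.assoc])
      (by rw [hx, Category.assoc])
  self v h := by
    refine rel_unique D h (exists_rel D h).choose_spec fun T' g i j v' x' hh hv hx => ?_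
    have hx' : (v' ≫ (D.obj i).hom) ≫ Sigma.ι X i = x' ≫ Sigma.ι X j := by
      rw [hx, Category.assoc, ← famι_hom, ← Category.assoc, hv, Category.assoc]
    by_cases hij : i = j
    · subst hij
      obtain rfl := (cancel_mono _).1 hx'
      rw [D.φ_self]
      exact hv.symm
    · have : IsEmpty T' := ⟨fun t => hij (eq_of_sigmaι_eq (A := X) (a := (v' ≫ (D.obj i).hom) t)
        (b := x' t) (by
          rw [← Scheme.Hom.comp_apply, ← Scheme.Hom.comp_apply]
          exact congrArg (fun m : T' ⟶ ∐ X => m t) hx'))⟩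
      exact isInitialOfIsEmpty.hom_ext _ _
  comp {T} v x y h h' h'' := by
    refine rel_unique D h'' ?_ (exists_rel D h'').choose_spec
    intro T' g i k v' y' hh hv hy
    have hcov : IsOpenCover fun j : κ => (g ≫ x) ⁻¹ᵁ (Sigma.ι X j).opensRange :=
      IsOpenCover.mk (eq_top_iff.2 fun t _ => by
        obtain ⟨j, b, hb⟩ := exists_sigmaι_eq ((g ≫ x) t)
        exact Opens.mem_iSup.2 ⟨j, ⟨b, hb⟩⟩)
    refine Scheme.Cover.hom_ext (T'.openCoverOfIsOpenCover _ hcov) _ _ fun (j : κ) => ?_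
    let O : T'.Opens := (g ≫ x) ⁻¹ᵁ (Sigma.ι X j).opensRange
    show O.ι ≫ g ≫ _ = O.ι ≫ _
    let x' : O.toScheme ⟶ X j := IsOpenImmersion.lift (Sigma.ι X j) ((O.ι ≫ g) ≫ x)
      (by rintro _ ⟨t, rfl⟩; exact t.2)
    have hx : x' ≫ Sigma.ι X j = (O.ι ≫ g) ≫ x := IsOpenImmersion.lift_fac _ _ _
    have hv₂ : (O.ι ≫ v') ≫ famι D i = (O.ι ≫ g) ≫ v := by
      rw [Category.assoc, hv, Category.assoc]
    have hy₂ : (O.ι ≫ y') ≫ Sigma.ι X k = (O.ι ≫ g) ≫ y := by
      rw [Category.assoc, hy, Category.assoc]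
    have c₁ := fam_cond D h hv₂ hx
    have hw₁ := (exists_rel D h).choose_spec (O.ι ≫ g) i j _ x' c₁ hv₂ hx
    have c₂ := fam_cond D h'' hv₂ hy₂
    let u := D.φ ((O.ι ≫ v') ≫ (D.obj i).hom) x' c₁ ⟨O.ι ≫ v', rfl⟩
    have hu : u.1 ≫ famι D j = (O.ι ≫ g) ≫ (exists_rel D h).choose := hw₁.symm
    have c₃ : (u.1 ≫ (D.obj j).hom) ≫ f j = (O.ι ≫ y') ≫ f k := fam_cond D h' hu hy₂
    have hw₂ := (exists_rel D h').choose_spec (O.ι ≫ g) j k u.1 (O.ι ≫ y') c₃ hu hy₂
    rw [← Category.assoc, hw₂, ← Category.assoc O.ι, ← φ_comp_left D O.ι v' y' hh c₂]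
    congr 1
    have key : ∀ (x₁ : O.toScheme ⟶ X j) (z : Desc.Lifts (D.obj j) x₁)
        (a : (z.1 ≫ (D.obj j).hom) ≫ f j = (O.ι ≫ y') ≫ f k)
        (b : x₁ ≫ f j = (O.ι ≫ y') ≫ f k),
        (D.φ (z.1 ≫ (D.obj j).hom) (O.ι ≫ y') a ⟨z.1, rfl⟩).1 = (D.φ x₁ (O.ι ≫ y') b z).1 := by
      intro x₁ z a b
      obtain ⟨z, rfl⟩ := z
      rfl
    rw [key x' u c₃ (c₁.symm.trans c₂)]
    exact congrArg Subtype.val (D.φ_comp _ _ _ c₁ (c₁.symm.trans c₂) _)

/-- An effective datum relative to the sum gives an effective datum relative to the family. -/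
theorem isEffective_of_famPre (h : Effective (famPre D)) : D.IsEffective := by
  obtain ⟨d⟩ := h
  have hpb : ∀ i, IsPullback (D.obj i).hom (famι D i ≫ d.q) (f i) d.a := fun i => by
    have := (isPullback_sigmaMap (fun i => (D.obj i).hom) i).flip.paste_horiz d.isPullback.flip
    rw [Sigma.ι_desc] at this
    exact this.flip
  let e (i : κ) : (D.obj i).left ≅ pullback (f i) d.a := (hpb i).isoPullback
  have hfst : ∀ i, (e i).hom ≫ pullback.fst (f i) d.a = (D.obj i).hom :=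
    fun i => (hpb i).isoPullback_hom_fst
  have hsnd : ∀ i, (e i).hom ≫ pullback.snd (f i) d.a = famι D i ≫ d.q :=
    fun i => (hpb i).isoPullback_hom_snd
  -- compatibility of the descended projection with the bijections
  have hcomm : ∀ ⦃T : Scheme.{u}⦄ ⦃i j : κ⦄ (x₀ : T ⟶ X i) (x₁ : T ⟶ X j)
      (h : x₀ ≫ f i = x₁ ≫ f j) (v : Desc.Lifts (D.obj i) x₀),
      (D.φ x₀ x₁ h v).1 ≫ famι D j ≫ d.q = v.1 ≫ famι D i ≫ d.q := by
    rintro T i j _ x₁ h ⟨v, rfl⟩
    have hh : (v ≫ famι D i) ≫ famHom D ≫ Sigma.desc f = (x₁ ≫ Sigma.ι X j) ≫ Sigma.desc f := by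
      rw [Category.assoc, reassoc_of% (famι_hom D i), Sigma.ι_desc, Category.assoc, Sigma.ι_desc,
        ← h, Category.assoc]
    have hw := (exists_rel D hh).choose_spec (𝟙 T) i j v x₁ h (Category.id_comp _).symm
      (Category.id_comp _).symm
    rw [Category.id_comp] at hw
    have := d.comm _ _ hh
    change (exists_rel D hh).choose ≫ d.q = _ at this
    rw [hw, Category.assoc, Category.assoc] at this
    exact this
  refine ⟨Over.mk d.a, ⟨{
    hom := ⟨fun i => Over.homMk (e i).inv ((hpb i).isoPullback_inv_fst),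
      fun T i j x₀ x₁ h v w hw => ?_⟩
    inv := ⟨fun i => Over.homMk (e i).hom (hfst i), fun T i j x₀ x₁ h v w hw => ?_⟩
    hom_inv_id := Desc.SchDDFam.hom_ext (funext fun i => Over.OverMorphism.ext (e i).inv_hom_id)
    inv_hom_id := Desc.SchDDFam.hom_ext (funext fun i => Over.OverMorphism.ext (e i).hom_inv_id) }⟩⟩
  · have hv := v.1
    apply (hpb j).hom_ext
    · refine (D.φ x₀ x₁ h w).2.trans ?_
      exact ((Category.assoc _ _ _).trans ((congrArg (_ ≫ ·) (hpb j).isoPullback_inv_fst).trans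
        (pullback.lift_fst _ _ _))).symm
    · refine (hcomm x₀ x₁ h w).trans ?_
      refine ((congrArg (· ≫ famι D i ≫ d.q) hw).trans ((Category.assoc _ _ _).trans
        (congrArg (v.1 ≫ ·) (hpb i).isoPullback_inv_snd))).trans ?_
      exact ((Category.assoc _ _ _).trans ((congrArg (_ ≫ ·) (hpb j).isoPullback_inv_snd).trans
        (pullback.lift_snd _ _ _))).symm
  · apply pullback.hom_ext
    · refine (pullback.lift_fst _ _ _).trans ?_
      exact ((Category.assoc _ _ _).trans ((congrArg (_ ≫ ·) (hfst j)).trans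
        (D.φ x₀ x₁ h v).2)).symm
    · refine (pullback.lift_snd _ _ _).trans ?_
      refine ((congrArg (· ≫ pullback.snd (f i) d.a) hw).trans ((Category.assoc _ _ _).trans
        (congrArg (v.1 ≫ ·) (hsnd i)))).trans ?_
      exact ((Category.assoc _ _ _).trans ((congrArg (_ ≫ ·) (hsnd j)).trans
        (hcomm x₀ x₁ h v))).symm

/-- Descent data with ind-quasi-affine structure morphisms are effective for fpqc families. -/
theorem isEffective_of_isIndQuasiAffineHom (hf : Presieve.ofArrows X f ∈ Scheme.fpqcPrecoverage S)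
    (hD : ∀ i, MoreMor.IsIndQuasiAffineHom (D.obj i).hom) : D.IsEffective := by
  have := cov_sigmaDesc f hf
  exact isEffective_of_famPre D
    (effective_of_isIndQuasiAffineHom (sigmaMap_isIndQuasiAffineHom _ hD) (famPre D))

end Groth.L20.SchDesc
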