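import Groth.Agent.L20.SchDesc.Basic
import Groth.Agent.L23.Descent
import Groth.Agent.S0081
import Mathlib.AlgebraicGeometry.Morphisms.Etale

/-!
# Properties of a descended scheme
-/

set_option autoImplicit false
set_option linter.style.haveILetI false
set_option backward.isDefEq.respectTransparency.types false

universe u

open CategoryTheory Limits AlgebraicGeometry

namespace Groth.L20.SchDesc

theorem props_of_iso {X S : Scheme.{u}} (p : X ⟶ S) [Flat p] [Surjective p] [QuasiCompact p]
    (D : Desc.SchDD p) [QuasiCompact D.obj.hom] [IsSeparated D.obj.hom] [Etale D.obj.hom]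
    (U : Over S) (e : (Desc.toDD p).obj U ≅ D) :
    QuasiCompact U.hom ∧ IsSeparated U.hom ∧ Etale U.hom := by
  let η : pullback p U.hom ≅ D.obj.left :=
    { hom := e.hom.hom.left
      inv := e.inv.hom.left
      hom_inv_id := congrArg (fun m : Desc.SchDD.Hom _ _ => m.hom.left) e.hom_inv_id
      inv_hom_id := congrArg (fun m : Desc.SchDD.Hom _ _ => m.hom.left) e.inv_hom_id }
  have hη : η.hom ≫ D.obj.hom = pullback.fst p U.hom := Over.w e.hom.hom
  have hηiso : IsIso η.hom := ⟨η.inv, η.hom_inv_id, η.inv_hom_id⟩
  have := Groth.Agent.S0081.result.{u}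
  have hp : (@Surjective ⊓ @Flat ⊓ @QuasiCompact : MorphismProperty Scheme.{u}) p :=
    ⟨⟨inferInstance, inferInstance⟩, inferInstance⟩
  refine ⟨?_, ?_, ?_⟩
  · refine MorphismProperty.of_isPullback_of_descendsAlong (P := @QuasiCompact)
      (IsPullback.of_hasPullback p U.hom) hp ?_
    rw [← hη]; exact MorphismProperty.RespectsIso.precomp _ _ _ ‹QuasiCompact D.obj.hom›
  · refine MorphismProperty.of_isPullback_of_descendsAlong (P := @IsSeparated)
      (IsPullback.of_hasPullback p U.hom) hp ?_
    rw [← hη]; exact MorphismProperty.RespectsIso.precomp _ _ _ ‹IsSeparated D.obj.hom›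
  · refine MorphismProperty.of_isPullback_of_descendsAlong (P := @Etale)
      (IsPullback.of_hasPullback p U.hom) hp ?_
    rw [← hη]; exact MorphismProperty.RespectsIso.precomp _ _ _ ‹Etale D.obj.hom›

end Groth.L20.SchDesc
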