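import Groth.Agent.L20.SchDesc.Basic
import Mathlib.AlgebraicGeometry.Morphisms.Flat
import Mathlib.RingTheory.Flat.Basic
import Mathlib.RingTheory.Flat.Stability
import Mathlib.LinearAlgebra.TensorProduct.RightExactness
import Mathlib.Algebra.Category.Ring.Constructions

/-!
# Descent of affine schemes along a flat map of affine schemes

On rings an action is a coaction `τ : B →ₐ[R] B ⊗[R] A`; its equalizer with `b ↦ b ⊗ 1` is the
descended ring.
-/

set_option autoImplicit false
set_option linter.style.haveILetI false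
set_option backward.isDefEq.respectTransparency.types false

universe u

open CategoryTheory Limits AlgebraicGeometry TensorProduct
open Algebra.TensorProduct (includeLeft includeRight productMap)

namespace Groth.L20.SchDesc

/-- Descent of an algebra along a flat algebra from a coaction. -/
theorem productMap_equalizer_bijective {R A B : Type u} [CommRing R] [CommRing A] [CommRing B]
    [Algebra R A] [Algebra R B] [Module.Flat R A] (ψ : A →ₐ[R] B) (τ : B →ₐ[R] B ⊗[R] A)
    (h1 : τ.comp ψ = includeRight) (h2 : (productMap (AlgHom.id R B) ψ).comp τ = AlgHom.id R B)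
    (h3 : (Algebra.TensorProduct.map τ (AlgHom.id R A)).comp τ =
      (Algebra.TensorProduct.map (includeLeft : B →ₐ[R] B ⊗[R] A) (AlgHom.id R A)).comp τ) :
    Function.Bijective (productMap (AlgHom.equalizer (includeLeft : B →ₐ[R] B ⊗[R] A) τ).val ψ) := by
  set ι : B →ₐ[R] B ⊗[R] A := includeLeft
  set B0 := AlgHom.equalizer ι τ
  set μ := productMap B0.val ψ
  have hτμ : τ.comp μ = Algebra.TensorProduct.map B0.val (AlgHom.id R A) := by
    apply Algebra.TensorProduct.ext'
    intro b a
    have hb : ι b.1 = τ b.1 := b.2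
    show τ (μ (b ⊗ₜ a)) = b.1 ⊗ₜ a
    rw [Algebra.TensorProduct.productMap_apply_tmul, map_mul]
    have ha : τ (ψ a) = (1 : B) ⊗ₜ a := AlgHom.congr_fun h1 a
    rw [ha, show B0.val b = b.1 from rfl, ← hb, Algebra.TensorProduct.includeLeft_apply,
      Algebra.TensorProduct.tmul_mul_tmul, mul_one, one_mul]
  have hinj : Function.Injective (Algebra.TensorProduct.map B0.val (AlgHom.id R A)) :=
    Module.Flat.rTensor_preserves_injective_linearMap B0.val.toLinearMap Subtype.val_injective
  refine ⟨fun x y e => hinj ?_, fun b => ?_⟩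
  · rw [← hτμ]
    exact congrArg τ e
  · have hex : Function.Exact B0.val.toLinearMap (τ.toLinearMap - ι.toLinearMap) := fun x => by
      rw [LinearMap.sub_apply, sub_eq_zero]
      exact ⟨fun hx => ⟨⟨x, hx.symm⟩, rfl⟩, fun ⟨y, hy⟩ => hy ▸ y.2.symm⟩
    have h0 : ((τ.toLinearMap - ι.toLinearMap).rTensor A) (τ b) = 0 := by
      rw [LinearMap.rTensor_sub, LinearMap.sub_apply, sub_eq_zero]
      exact AlgHom.congr_fun h3 b
    obtain ⟨z, hz⟩ := (Module.Flat.rTensor_exact A hex _).1 h0
    refine ⟨z, ?_⟩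
    have hz' : τ (μ z) = τ b := (AlgHom.congr_fun hτμ z).trans hz
    have h := congrArg (productMap (AlgHom.id R B) ψ) hz'
    exact ((AlgHom.congr_fun h2 (μ z)).symm.trans h).trans (AlgHom.congr_fun h2 b)

section

variable {R A B : Type u} [CommRing R] [CommRing A] [CommRing B] [Algebra R A] [Algebra R B]

/-- The morphism of spectra of an algebra map. -/
noncomputable abbrev sp {C D : Type u} [CommRing C] [CommRing D] [Algebra R C] [Algebra R D] (b : C →ₐ[R] D) :
    Spec (CommRingCat.of D) ⟶ Spec (CommRingCat.of C) :=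
  Spec.map (CommRingCat.ofHom b.toRingHom)

theorem sp_comp {C D E : Type u} [CommRing C] [CommRing D] [CommRing E] [Algebra R C] [Algebra R D]
    [Algebra R E] (b : C →ₐ[R] D) (c : D →ₐ[R] E) : sp (c.comp b) = sp c ≫ sp b :=
  (Spec.map_comp (CommRingCat.ofHom b.toRingHom) (CommRingCat.ofHom c.toRingHom))

theorem sp_inj {C D : Type u} [CommRing C] [CommRing D] [Algebra R C] [Algebra R D]
    {b c : C →ₐ[R] D} (h : sp b = sp c) : b = c :=
  AlgHom.coe_ringHom_injective (congrArg CommRingCat.Hom.hom (Spec.map_injective h))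

theorem sp_cond {C D : Type u} [CommRing C] [CommRing D] [Algebra R C] [Algebra R D]
    (b : C →ₐ[R] D) :
    sp b ≫ Spec.map (CommRingCat.ofHom (algebraMap R C)) =
      Spec.map (CommRingCat.ofHom (algebraMap R D)) := by
  rw [← Spec.map_comp]
  exact congrArg (fun x => Spec.map (CommRingCat.ofHom x)) (AlgHom.comp_algebraMap b)

theorem act_cond {C : Type u} [CommRing C] [Algebra R C] (ψ : A →ₐ[R] B) (b : B →ₐ[R] C)
    (a : A →ₐ[R] C) : sp b ≫ sp ψ ≫ Spec.map (CommRingCat.ofHom (algebraMap R A)) =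
      sp a ≫ Spec.map (CommRingCat.ofHom (algebraMap R A)) :=
  ((congrArg (sp b ≫ ·) (sp_cond ψ)).trans (sp_cond b)).trans (sp_cond a).symm

theorem effective_core [Module.Flat R A] (ψ : A →ₐ[R] B)
    (P : Pre (Spec.map (CommRingCat.ofHom (algebraMap R A))) (sp ψ)) : Effective P := by
  let il : B →ₐ[R] B ⊗[R] A := includeLeft
  let ir : A →ₐ[R] B ⊗[R] A := includeRight
  let t := P.act (sp il) (sp ir) (act_cond ψ il ir)
  obtain ⟨τ₀, hτ₀⟩ : ∃ τ₀ : CommRingCat.of B ⟶ CommRingCat.of (B ⊗[R] A), Spec.map τ₀ = t :=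
    Spec.map_surjective t
  have hhom : τ₀.hom.comp ψ.toRingHom = ir.toRingHom := by
    have := P.hom (sp il) (sp ir) (act_cond ψ il ir)
    change t ≫ sp ψ = sp ir at this
    rw [← hτ₀, ← Spec.map_comp] at this
    exact congrArg CommRingCat.Hom.hom (Spec.map_injective this)
  let τ : B →ₐ[R] B ⊗[R] A := AlgHom.mk τ₀.hom fun r => by
    have h := RingHom.congr_fun hhom (algebraMap R A r)
    simp only [RingHom.comp_apply, AlgHom.toRingHom_eq_coe, RingHom.coe_coe, AlgHom.commutes] at h
    exact h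
  have ht : t = sp τ := hτ₀.symm
  have hact : ∀ (C : Type u) [CommRing C] [Algebra R C] (b : B →ₐ[R] C) (a : A →ₐ[R] C),
      P.act (sp b) (sp a) (act_cond ψ b a) = sp ((productMap b a).comp τ) := by
    intro C _ _ b a
    rw [sp_comp, ← ht]
    refine (P.natural' (sp (productMap b a)) _ _ _ _ ?_ ?_).symm <;>
      refine (sp_comp _ _).symm.trans (congrArg sp ?_)
    · exact Algebra.TensorProduct.productMap_left _ _
    · exact Algebra.TensorProduct.productMap_right _ _
  have h1 : τ.comp ψ = ir := AlgHom.coe_ringHom_injective hhom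
  have h2 : (productMap (AlgHom.id R B) ψ).comp τ = AlgHom.id R B := by
    refine sp_inj ((hact B _ _).symm.trans ?_)
    have e : sp (AlgHom.id R B) ≫ sp ψ = sp ψ := by rw [← sp_comp]; rfl
    exact (P.act_congr rfl e.symm _ ((Category.assoc _ _ _).symm)).trans (P.self _ _)
  have h3 : (Algebra.TensorProduct.map τ (AlgHom.id R A)).comp τ =
      (Algebra.TensorProduct.map il (AlgHom.id R A)).comp τ := by
    let l : B ⊗[R] A →ₐ[R] (B ⊗[R] A) ⊗[R] A := includeLeft
    let j1 : B →ₐ[R] (B ⊗[R] A) ⊗[R] A := l.comp il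
    let j2 : A →ₐ[R] (B ⊗[R] A) ⊗[R] A := l.comp ir
    let j3 : A →ₐ[R] (B ⊗[R] A) ⊗[R] A := includeRight
    have e12 : (productMap j1 j2).comp τ = l.comp τ := by
      congr 1
      apply Algebra.TensorProduct.ext <;> ext x <;>
        simp [j1, j2, l, il, ir]
    have eτ : productMap (l.comp τ) j3 = Algebra.TensorProduct.map τ (AlgHom.id R A) := by
      apply Algebra.TensorProduct.ext <;> ext x <;> simp [j3, l]
    have eι : productMap j1 j3 = Algebra.TensorProduct.map il (AlgHom.id R A) := by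
      apply Algebra.TensorProduct.ext <;> ext x <;> simp [j1, j3, l, il, Algebra.TensorProduct.one_def]
    rw [← eτ, ← eι]
    refine sp_inj (((hact _ (l.comp τ) j3).symm.trans ?_).trans (hact _ j1 j3))
    have e1 : sp (l.comp τ) = P.act (sp j1) (sp j2) (act_cond ψ j1 j2) :=
      (congrArg sp e12).symm.trans (hact _ j1 j2).symm
    refine (P.act_congr e1 rfl _ ((P.hom_p _ _ _).trans ?_)).trans (P.comp _ _ _ _ _ _)
    exact (sp_cond j2).trans (sp_cond j3).symm
  let B0 := AlgHom.equalizer il τ
  let e : CommRingCat.of (B0 ⊗[R] A) ≅ CommRingCat.of B :=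
    (RingEquiv.ofBijective (productMap B0.val ψ).toRingHom
      (productMap_equalizer_bijective ψ τ h1 h2 h3)).toCommRingCatIso
  refine ⟨⟨Spec (.of B0), Spec.map (CommRingCat.ofHom (algebraMap R B0)), sp B0.val, ?_,
    fun {T} v x h => ?_⟩⟩
  · refine isPullback_SpecMap_of_isPushout _ _ _ _ ((CommRingCat.isPushout_tensorProduct R B0 A).flip.of_iso
      (Iso.refl _) (Iso.refl _) (Iso.refl _) e ?_ ?_ ?_ ?_)
    · simp
    · simp
    · ext a
      exact (AlgHom.congr_fun (Algebra.TensorProduct.productMap_right B0.val ψ) a)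
    · ext b
      exact (AlgHom.congr_fun (Algebra.TensorProduct.productMap_left B0.val ψ) b)
  · let w : T ⟶ Spec (.of (B ⊗[R] A)) := pullback.lift
      (f := Spec.map (CommRingCat.ofHom (algebraMap R B)))
      (g := Spec.map (CommRingCat.ofHom (algebraMap R A))) v x
      ((congrArg (v ≫ ·) (sp_cond ψ)).symm.trans h) ≫ (pullbackSpecIso R B A).hom
    have hl : w ≫ sp il = v := by
      refine (Category.assoc _ _ _).trans ?_
      erw [pullbackSpecIso_hom_fst R B A, pullback.lift_fst]
    have hr : w ≫ sp ir = x := by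
      refine (Category.assoc _ _ _).trans ?_
      erw [pullbackSpecIso_hom_snd R B A, pullback.lift_snd]
    rw [← P.natural' w (sp il) (sp ir) (act_cond ψ il ir) h hl hr, Category.assoc]
    show w ≫ t ≫ _ = _
    rw [ht, ← sp_comp]
    refine Eq.trans ?_ (congrArg (· ≫ sp B0.val) hl)
    refine Eq.trans (congrArg (w ≫ ·) (Eq.trans (congrArg sp ?_) (sp_comp B0.val il)))
      (Category.assoc _ _ _).symm
    exact AlgHom.ext fun b => b.2.symm

end

/-- A descent datum on an affine scheme along a flat map of affine schemes is effective. -/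
theorem effective_of_affine {X S V : Scheme.{u}} [IsAffine X] [IsAffine S] [IsAffine V] {p : X ⟶ S}
    [Flat p] {f : V ⟶ X} (P : Pre p f) : Effective P := by
  obtain ⟨φ, hφ⟩ := Spec.map_surjective (X.isoSpec.inv ≫ p ≫ S.isoSpec.hom)
  have hflat : φ.hom.Flat := by
    have : Flat (Spec.map φ) := by rw [hφ]; infer_instance
    exact Flat.SpecMap_iff.1 this
  apply effective_of_ofIso P V.isoSpec.symm
  obtain ⟨ψ, hψ⟩ := Spec.map_surjective ((V.isoSpec.symm.hom ≫ f) ≫ X.isoSpec.hom)
  have hpb : IsPullback X.isoSpec.inv (Spec.map φ) p S.isoSpec.inv :=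
    IsPullback.of_horiz_isIso ⟨by rw [hφ]; simp⟩
  apply effective_of_ofBase _ hpb (f' := Spec.map ψ) (by rw [hψ, Category.assoc,
    Iso.hom_inv_id, Category.comp_id])
  algebraize [φ.hom, ψ.hom, ψ.hom.comp φ.hom]
  exact effective_core (IsScalarTower.toAlgHom Γ(S, ⊤) Γ(X, ⊤) Γ(V, ⊤)) _

end Groth.L20.SchDesc
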