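import Groth.Agent.L20.SchDesc.Glue
import Groth.Agent.L20.SchDesc.Affine
import Mathlib.AlgebraicGeometry.Morphisms.Affine
import Mathlib.AlgebraicGeometry.Morphisms.FinitePresentation
import Mathlib.AlgebraicGeometry.Morphisms.FlatDescent
import Mathlib.AlgebraicGeometry.Morphisms.LocalIso
import Mathlib.AlgebraicGeometry.Morphisms.Etale
import Mathlib.AlgebraicGeometry.Morphisms.Descent

/-!
# Descent of affine morphisms along fpqc morphisms

A descent datum is effective if its pullback along an fppf cover of the source is effective.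
-/

set_option autoImplicit false
set_option linter.style.haveILetI false
set_option backward.isDefEq.respectTransparency.types false

universe u

open CategoryTheory Limits AlgebraicGeometry MorphismProperty

namespace Groth.L20.SchDesc

variable {X S V : Scheme.{u}} {p : X ⟶ S} {f : V ⟶ X}

theorem basePull_cond {Y : Scheme.{u}} (h : Y ⟶ X) {T : Scheme.{u}} (v : T ⟶ pullback f h)
    (x : T ⟶ Y) (e : v ≫ pullback.snd f h ≫ h ≫ p = x ≫ h ≫ p) :
    (v ≫ pullback.fst f h) ≫ f ≫ p = (x ≫ h) ≫ p := by
  rw [Category.assoc, ← Category.assoc (pullback.fst f h), pullback.condition]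
  simpa using e

/-- The pullback of a datum along a morphism to the source. -/
noncomputable def basePull (P : Pre p f) {Y : Scheme.{u}} (h : Y ⟶ X) :
    Pre (h ≫ p) (pullback.snd f h) where
  act v x e := pullback.lift (P.act (v ≫ pullback.fst f h) (x ≫ h) (basePull_cond h v x e)) x
    (P.hom _ _ _)
  hom v x e := pullback.lift_snd _ _ _
  natural g v x e e' := by
    apply pullback.hom_ext
    · exact (pullback.lift_fst _ _ _).trans ((Category.assoc _ _ _).trans
        ((congrArg (g ≫ ·) (pullback.lift_fst _ _ _)).trans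
          (P.natural' g _ _ _ _ (Category.assoc _ _ _).symm (Category.assoc _ _ _).symm))).symm
    · exact (pullback.lift_snd _ _ _).trans ((Category.assoc _ _ _).trans
        (congrArg (g ≫ ·) (pullback.lift_snd _ _ _))).symm
  self v e := by
    apply pullback.hom_ext
    · exact (pullback.lift_fst _ _ _).trans ((P.act_congr rfl ((Category.assoc _ _ _).trans
        ((congrArg (v ≫ ·) pullback.condition.symm).trans (Category.assoc _ _ _).symm)) _
          (Category.assoc _ _ _).symm).trans (P.self _ _))
    · exact pullback.lift_snd _ _ _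
  comp v x y e e' e'' := by
    apply pullback.hom_ext
    · refine (pullback.lift_fst _ _ _).trans (((P.act_congr (pullback.lift_fst _ _ _) rfl _
        ((P.hom_p _ _ _).trans ((basePull_cond h v x e).symm.trans
          (basePull_cond h v y e'')))).trans
        (P.comp _ (x ≫ h) (y ≫ h) _ _ _)).trans (pullback.lift_fst _ _ _).symm)
    · exact (pullback.lift_snd _ _ _).trans (pullback.lift_snd _ _ _).symm

theorem basePull_act_fst (P : Pre p f) {Y : Scheme.{u}} (h : Y ⟶ X) {T : Scheme.{u}}
    (v : T ⟶ pullback f h) (x : T ⟶ Y) (e : v ≫ pullback.snd f h ≫ h ≫ p = x ≫ h ≫ p) :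
    (basePull P h).act v x e ≫ pullback.fst f h =
      P.act (v ≫ pullback.fst f h) (x ≫ h) (basePull_cond h v x e) :=
  pullback.lift_fst _ _ _

/-- Effectivity is local for fppf covers of the source. -/
theorem effective_of_basePull (P : Pre p f) {Y : Scheme.{u}} (h : Y ⟶ X) [Flat h] [Surjective h]
    [LocallyOfFinitePresentation h] (hE : Effective (basePull P h)) : Effective P := by
  obtain ⟨d⟩ := hE
  let pr := pullback.fst f h
  have hpr : pr ≫ f = pullback.snd f h ≫ h := pullback.condition
  have : Flat pr := MorphismProperty.pullback_fst _ _ inferInstance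
  have : Surjective pr := MorphismProperty.pullback_fst _ _ inferInstance
  have : LocallyOfFinitePresentation pr := MorphismProperty.pullback_fst _ _ inferInstance
  have hinv : ∀ {T : Scheme.{u}} (g₁ g₂ : T ⟶ pullback f h), g₁ ≫ pr = g₂ ≫ pr →
      g₁ ≫ d.q = g₂ ≫ d.q := by
    intro T g₁ g₂ e
    have e' : g₁ ≫ pullback.snd f h ≫ h ≫ p = (g₂ ≫ pullback.snd f h) ≫ h ≫ p := by
      rw [Category.assoc, ← reassoc_of% hpr, reassoc_of% e]
    have key : (basePull P h).act g₁ (g₂ ≫ pullback.snd f h) e' = g₂ := by
      apply pullback.hom_ext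
      · refine (basePull_act_fst P h _ _ _).trans ?_
        refine (P.act_congr e (by rw [Category.assoc, ← hpr, Category.assoc]) _
          (Category.assoc _ _ _).symm).trans (P.self _ _)
      · exact (basePull P h).hom _ _ _
    exact (d.comm g₁ _ e').symm.trans (congrArg (· ≫ d.q) key)
  let q : V ⟶ d.U := EffectiveEpi.desc pr d.q hinv
  have hq : pr ≫ q = d.q := EffectiveEpi.fac _ _ _
  have hsq : f ≫ p = q ≫ d.a := by
    rw [← cancel_epi pr, reassoc_of% hpr, reassoc_of% hq, d.isPullback.w]
  refine ⟨⟨d.U, d.a, q, ?_, fun {T} v x e => ?_⟩⟩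
  · let κ : V ⟶ pullback p d.a := pullback.lift f q hsq
    let Φ : pullback (h ≫ p) d.a ⟶ pullback p d.a :=
      pullback.map _ _ _ _ h (𝟙 _) (𝟙 _) (Category.comp_id _) (by simp)
    let e := d.isPullback.isoPullback
    have hΦ₁ : Φ ≫ pullback.fst p d.a = pullback.fst (h ≫ p) d.a ≫ h := pullback.lift_fst _ _ _
    have hΦ₂ : Φ ≫ pullback.snd p d.a = pullback.snd (h ≫ p) d.a :=
      (pullback.lift_snd _ _ _).trans (Category.comp_id _)
    have hb : IsPullback Φ (pullback.fst (h ≫ p) d.a) (pullback.fst p d.a) h := by
      refine IsPullback.of_right (h₁₂ := pullback.snd p d.a) (v₁₃ := d.a) (h₂₂ := p) ?_ ?_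
        (IsPullback.of_hasPullback p d.a).flip
      · rw [hΦ₂]
        exact (IsPullback.of_hasPullback (h ≫ p) d.a).flip
      · exact hΦ₁
    have ht : IsPullback pr e.hom κ Φ := by
      refine IsPullback.of_bot (v₂₁ := pullback.fst (h ≫ p) d.a) (v₂₂ := pullback.fst p d.a)
        (h₃₁ := h) ?_ ?_ hb
      · rw [d.isPullback.isoPullback_hom_fst, pullback.lift_fst]
        exact IsPullback.of_hasPullback f h
      · apply pullback.hom_ext
        · refine ((Category.assoc _ _ _).trans ((congrArg (pr ≫ ·)
            (pullback.lift_fst _ _ _)).trans hpr)).trans ?_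
          exact ((Category.assoc _ _ _).trans ((congrArg (e.hom ≫ ·) hΦ₁).trans
            ((Category.assoc _ _ _).symm.trans
              (congrArg (· ≫ h) d.isPullback.isoPullback_hom_fst)))).symm
        · refine ((Category.assoc _ _ _).trans ((congrArg (pr ≫ ·)
            (pullback.lift_snd _ _ _)).trans hq)).trans ?_
          exact ((Category.assoc _ _ _).trans ((congrArg (e.hom ≫ ·) hΦ₂).trans
            d.isPullback.isoPullback_hom_snd)).symm
    have hΦ : (@Surjective ⊓ @Flat ⊓ @LocallyOfFinitePresentation :
        MorphismProperty Scheme.{u}) Φ :=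
      MorphismProperty.of_isPullback hb.flip
        ⟨⟨(inferInstance : Surjective h), (inferInstance : Flat h)⟩,
          (inferInstance : LocallyOfFinitePresentation h)⟩
    have hκ : IsIso κ := (MorphismProperty.isomorphisms.iff κ).1
      (MorphismProperty.of_isPullback_of_descendsAlong
        (P := MorphismProperty.isomorphisms Scheme.{u}) ht.flip hΦ
        ((MorphismProperty.isomorphisms.iff e.hom).2 inferInstance))
    exact IsPullback.of_iso (IsPullback.of_hasPullback p d.a) (asIso κ).symm (Iso.refl _)
      (Iso.refl _) (Iso.refl _)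
      ((Category.comp_id _).trans ((IsIso.eq_inv_comp κ).2 (pullback.lift_fst _ _ _)))
      ((Category.comp_id _).trans ((IsIso.eq_inv_comp κ).2 (pullback.lift_snd _ _ _)))
      (by simp) (by simp)
  · let e₁ := pullback.fst v pr
    have : Flat e₁ := MorphismProperty.pullback_fst _ _ inferInstance
    have : Surjective e₁ := MorphismProperty.pullback_fst _ _ inferInstance
    have : LocallyOfFinitePresentation e₁ := MorphismProperty.pullback_fst _ _ inferInstance
    let e₂ := pullback.fst (e₁ ≫ x) h
    have : Flat e₂ := MorphismProperty.pullback_fst _ _ inferInstance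
    have : Surjective e₂ := MorphismProperty.pullback_fst _ _ inferInstance
    have : LocallyOfFinitePresentation e₂ := MorphismProperty.pullback_fst _ _ inferInstance
    rw [← cancel_epi e₁, ← cancel_epi e₂]
    let v' := e₂ ≫ pullback.snd v pr
    let y := pullback.snd (e₁ ≫ x) h
    have hv : v' ≫ pr = e₂ ≫ e₁ ≫ v := by
      rw [Category.assoc, ← pullback.condition]
    have hy : y ≫ h = e₂ ≫ e₁ ≫ x := pullback.condition.symm
    have hc : v' ≫ pullback.snd f h ≫ h ≫ p = y ≫ h ≫ p := by
      rw [← reassoc_of% hpr, reassoc_of% hv, reassoc_of% hy, e]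
    have h1 := d.comm v' y hc
    rw [← hq, ← Category.assoc, ← Category.assoc v', hv, basePull_act_fst] at h1
    simp only [Category.assoc] at h1
    refine Eq.trans ?_ h1
    rw [← Category.assoc e₁, ← Category.assoc e₂]
    refine congrArg (· ≫ q) ?_
    refine (congrArg (e₂ ≫ ·) (P.natural' e₁ v x e ?_ rfl rfl)).trans
      (P.natural' e₂ _ _ _ _ hv.symm hy.symm)
    simp [e]

theorem effective_of_isAffineHom_of_isAffine [IsAffine S] [Flat p] [Surjective p] [QuasiCompact p]
    [IsAffineHom f] (P : Pre p f) : Effective P := by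
  have : CompactSpace X := QuasiCompact.compactSpace_of_compactSpace p
  obtain ⟨Y, h, hs, hl, hY⟩ := Scheme.exists_hom_isAffine_of_isZariskiLocalAtSource @IsLocalIso X
  have : Etale h := IsLocalIso.le_of_isZariskiLocalAtSource @Etale _ _ h hl
  have : Flat h := inferInstance
  have : LocallyOfFinitePresentation h := inferInstance
  have : IsAffineHom (pullback.snd f h) := MorphismProperty.pullback_snd f h inferInstance
  have : IsAffine (pullback f h) := isAffine_of_isAffineHom (pullback.snd f h)
  exact effective_of_basePull P h (effective_of_affine _)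

/-- Descent data with affine structure morphism are effective for fpqc morphisms. -/
theorem effective_of_isAffineHom [Flat p] [Surjective p] [QuasiCompact p] [IsAffineHom f]
    (P : Pre p f) : Effective P := by
  refine effective_of_cover P fun v => ?_
  obtain ⟨W, hW, hv, -⟩ :=
    exists_isAffineOpen_mem_and_subset (X := S) (x := p (f v)) (U := ⊤) trivial
  have hO : Stable P (f ⁻¹ᵁ p ⁻¹ᵁ W) := by
    intro T w x e hw
    rintro _ ⟨t, rfl⟩
    show p (f (P.act w x e t)) ∈ W
    have h1 : (P.act w x e ≫ f ≫ p) t = (w ≫ f ≫ p) t := by rw [P.hom_p, e]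
    simp only [Scheme.Hom.comp_apply] at h1
    rw [h1]
    exact hw ⟨t, rfl⟩
  refine ⟨f ⁻¹ᵁ p ⁻¹ᵁ W, hv, hO, ?_⟩
  have : IsAffine W := hW
  have : IsAffineHom (f ∣_ p ⁻¹ᵁ W) :=
    MorphismProperty.of_isPullback (isPullback_morphismRestrict f (p ⁻¹ᵁ W)).flip inferInstance
  have : Surjective (p ∣_ W) :=
    MorphismProperty.of_isPullback (isPullback_morphismRestrict p W).flip inferInstance
  exact effective_of_ofBase _ (isPullback_morphismRestrict p W).flip (f' := f ∣_ p ⁻¹ᵁ W)
    (morphismRestrict_ι f _) (effective_of_isAffineHom_of_isAffine _)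

end Groth.L20.SchDesc
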