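import Groth.Agent.L20.SchDesc.Glue
import Groth.Agent.L20.SchDesc.Affine
import Groth.Agent.L22.AffineDescent
import Mathlib.AlgebraicGeometry.QuasiAffine
import Mathlib.AlgebraicGeometry.Morphisms.Affine
import Mathlib.AlgebraicGeometry.Morphisms.QuasiSeparated

/-!
# Descent of quasi-affine schemes along a flat map of affine schemes

A datum on a quasi-affine scheme extends to its affine hull.
-/

set_option autoImplicit false
set_option linter.style.haveILetI false
set_option backward.isDefEq.respectTransparency.types false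

universe u

open CategoryTheory Limits AlgebraicGeometry

namespace Groth.L20.SchDesc

variable {X S V : Scheme.{u}} {p : X ⟶ S} {f : V ⟶ X}

/-- Points `(v, x)` with the same image downstairs. -/
noncomputable abbrev Pairs (p : X ⟶ S) (f : V ⟶ X) : Scheme.{u} := pullback (f ≫ p) p

/-- The source map of pairs. -/
noncomputable abbrev src (p : X ⟶ S) (f : V ⟶ X) : Pairs p f ⟶ V := pullback.fst _ _

/-- The target point of pairs. -/
noncomputable abbrev pt (p : X ⟶ S) (f : V ⟶ X) : Pairs p f ⟶ X := pullback.snd _ _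

/-- Triples `(v, x, y)` with the same image downstairs. -/
noncomputable abbrev Triples (p : X ⟶ S) (f : V ⟶ X) : Scheme.{u} :=
  pullback (src p f ≫ f ≫ p) p

/-- The first projection of triples. -/
noncomputable abbrev proj (p : X ⟶ S) (f : V ⟶ X) : Triples p f ⟶ Pairs p f := pullback.fst _ _

/-- The last point of triples. -/
noncomputable abbrev last (p : X ⟶ S) (f : V ⟶ X) : Triples p f ⟶ X := pullback.snd _ _

theorem pairs_cond : src p f ≫ f ≫ p = pt p f ≫ p := pullback.condition

theorem triples_cond : (proj p f ≫ src p f) ≫ f ≫ p = last p f ≫ p :=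
  (Category.assoc _ _ _).trans pullback.condition

theorem triples_cond' (t : Pairs p f ⟶ V) (ht : t ≫ f = pt p f) :
    (proj p f ≫ t) ≫ f ≫ p = last p f ≫ p := by
  rw [Category.assoc, reassoc_of% ht, ← pairs_cond, ← Category.assoc]
  exact triples_cond

/-- The datum of an action map on pairs. -/
noncomputable def Pre.ofMap (t : Pairs p f ⟶ V) (ht : t ≫ f = pt p f)
    (hself : pullback.lift (𝟙 V) f (Category.id_comp _) ≫ t = 𝟙 V)
    (hcomp : pullback.lift (proj p f ≫ t) (last p f) (triples_cond' t ht) ≫ t =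
      pullback.lift (proj p f ≫ src p f) (last p f) triples_cond ≫ t) : Pre p f where
  act v x h := pullback.lift v x h ≫ t
  hom v x h := by rw [Category.assoc, ht]; exact pullback.lift_snd _ _ _
  natural g v x h h' := by
    rw [← Category.assoc]
    congr 1
    apply pullback.hom_ext
    · simp only [Category.assoc, pullback.lift_fst]
    · simp only [Category.assoc, pullback.lift_snd]
  self v h := by
    have : pullback.lift v (v ≫ f) h =
        v ≫ pullback.lift (𝟙 V) f (Category.id_comp _) := by
      apply pullback.hom_ext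
      · simp only [Category.assoc, pullback.lift_fst, Category.comp_id]
      · simp only [Category.assoc, pullback.lift_snd]
    rw [this, Category.assoc, hself, Category.comp_id]
  comp v x y h h' h'' := by
    have hw : pullback.lift v x h ≫ src p f ≫ f ≫ p = y ≫ p := by
      rw [← Category.assoc, pullback.lift_fst]; exact h''
    let w := pullback.lift (f := src p f ≫ f ≫ p) (g := p) (pullback.lift v x h) y hw
    have h1 : pullback.lift (pullback.lift v x h ≫ t) y h' =
        w ≫ pullback.lift (proj p f ≫ t) (last p f) (triples_cond' t ht) := by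
      apply pullback.hom_ext
      · simp only [Category.assoc, pullback.lift_fst, w, pullback.lift_fst_assoc]
      · simp only [Category.assoc, pullback.lift_snd, w]
    have h2 : pullback.lift v y h'' =
        w ≫ pullback.lift (proj p f ≫ src p f) (last p f) triples_cond := by
      apply pullback.hom_ext
      · simp only [Category.assoc, pullback.lift_fst, w, pullback.lift_fst_assoc]
      · simp only [Category.assoc, pullback.lift_snd, w]
    rw [h1, h2, Category.assoc, Category.assoc, hcomp]

/-- The action map of a datum. -/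
noncomputable abbrev Pre.map (P : Pre p f) : Pairs p f ⟶ V := P.act (src p f) (pt p f) pairs_cond

theorem Pre.map_f (P : Pre p f) : P.map ≫ f = pt p f := P.hom _ _ _

theorem Pre.act_eq_map (P : Pre p f) {T : Scheme.{u}} (v : T ⟶ V) (x : T ⟶ X)
    (h : v ≫ f ≫ p = x ≫ p) : P.act v x h = pullback.lift v x h ≫ P.map :=
  (P.natural' (pullback.lift v x h) _ _ _ h (pullback.lift_fst _ _ _) (pullback.lift_snd _ _ _)).symm

theorem Pre.map_self (P : Pre p f) :
    pullback.lift (𝟙 V) f (Category.id_comp _) ≫ P.map = 𝟙 V := by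
  rw [← P.act_eq_map]
  exact (P.act_congr rfl (Category.id_comp f).symm _ (Category.assoc _ _ _).symm).trans (P.self _ _)

theorem Pre.map_comp (P : Pre p f) :
    pullback.lift (proj p f ≫ P.map) (last p f) (triples_cond' P.map P.map_f) ≫ P.map =
      pullback.lift (proj p f ≫ src p f) (last p f) triples_cond ≫ P.map := by
  rw [← P.act_eq_map, ← P.act_eq_map]
  have h : (proj p f ≫ src p f) ≫ f ≫ p = (proj p f ≫ pt p f) ≫ p := by
    rw [Category.assoc, pairs_cond, ← Category.assoc]
  refine (P.act_congr (P.natural' (proj p f) _ _ pairs_cond h rfl rfl) rfl _ ?_).trans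
    (P.comp _ _ _ _ _ _)
  rw [P.hom_p, ← h]
  exact triples_cond

section hull

variable {Y Y' : Scheme.{u}} (π : Y ⟶ Y') (a : Y ⟶ S) (a' : Y' ⟶ S) (hπ : π ≫ a' = a) (p)

/-- Base change of `π` along `p`. -/
noncomputable abbrev pairMap : pullback a p ⟶ pullback a' p :=
  pullback.lift (pullback.fst a p ≫ π) (pullback.snd a p)
    (by rw [Category.assoc, hπ, pullback.condition])

theorem isIso_appTop_pairMap [IsAffine X] [IsAffine S] [Flat p] [CompactSpace Y]
    [QuasiSeparatedSpace Y] [CompactSpace Y'] [QuasiSeparatedSpace Y'] [IsIso π.appTop] :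
    IsIso (pairMap p π a a' hπ).appTop := by
  have h1 := Groth.L22.AffDesc.isPushout_appTop (IsPullback.of_hasPullback a p)
  have h2 := Groth.L22.AffDesc.isPushout_appTop (IsPullback.of_hasPullback a' p)
  have hA : π.appTop ≫ (pullback.fst a p).appTop =
      (pullback.fst a' p).appTop ≫ (pairMap p π a a' hπ).appTop := by
    rw [← Scheme.Hom.comp_appTop, ← Scheme.Hom.comp_appTop, pullback.lift_fst]
  have hB : (pullback.snd a p).appTop =
      (pullback.snd a' p).appTop ≫ (pairMap p π a a' hπ).appTop := by
    rw [← Scheme.Hom.comp_appTop, pullback.lift_snd]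
  have ha : a.appTop ≫ inv π.appTop = a'.appTop := by
    rw [IsIso.comp_inv_eq, ← Scheme.Hom.comp_appTop, hπ]
  have hw : a.appTop ≫ inv π.appTop ≫ (pullback.fst a' p).appTop =
      p.appTop ≫ (pullback.snd a' p).appTop := by
    rw [reassoc_of% ha, ← Scheme.Hom.comp_appTop, ← Scheme.Hom.comp_appTop, pullback.condition]
  refine ⟨h1.desc (inv π.appTop ≫ (pullback.fst a' p).appTop) (pullback.snd a' p).appTop hw,
    ?_, ?_⟩
  · apply h2.hom_ext
    · rw [← reassoc_of% hA, h1.inl_desc, IsIso.hom_inv_id_assoc, Category.comp_id]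
    · rw [← reassoc_of% hB, h1.inr_desc, Category.comp_id]
  · apply h1.hom_ext
    · rw [h1.inl_desc_assoc, Category.assoc, ← hA, IsIso.inv_hom_id_assoc, Category.comp_id]
    · rw [h1.inr_desc_assoc, ← hB, Category.comp_id]

theorem ext_of_isIso_appTop {Z : Scheme.{u}} [IsAffine Z] [IsIso π.appTop] {g₁ g₂ : Y' ⟶ Z}
    (h : π ≫ g₁ = π ≫ g₂) : g₁ = g₂ := by
  apply ext_of_isAffine
  rw [← cancel_mono π.appTop, ← Scheme.Hom.comp_appTop, ← Scheme.Hom.comp_appTop, h]

theorem exists_factor_of_isIso_appTop {Z : Scheme.{u}} [IsAffine Z] [IsAffine Y'] [IsIso π.appTop]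
    (g : Y ⟶ Z) : ∃ m : Y' ⟶ Z, π ≫ m = g := by
  refine ⟨Y'.isoSpec.hom ≫ Spec.map (g.appTop ≫ inv π.appTop) ≫ Z.isoSpec.inv, ?_⟩
  have h1 : π ≫ Y'.isoSpec.hom = Y.toSpecΓ ≫ Spec.map π.appTop := by
    rw [Scheme.isoSpec_hom]; exact Scheme.toSpecΓ_naturality π
  rw [reassoc_of% h1, ← Spec.map_comp_assoc, Category.assoc, IsIso.inv_hom_id, Category.comp_id,
    ← Scheme.toSpecΓ_naturality_assoc, ← Scheme.isoSpec_hom, Iso.hom_inv_id, Category.comp_id]

end hull

/-- A datum on a quasi-affine scheme along a flat map of affine schemes is effective. -/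
theorem effective_of_isQuasiAffine [IsAffine X] [IsAffine S] [V.IsQuasiAffine] [Flat p]
    [Surjective p] (P : Pre p f) : Effective P := by
  have : IsAffineHom p := isAffineHom_of_isAffine p
  have : QuasiCompact p := inferInstance
  let W : Scheme.{u} := Spec Γ(V, ⊤)
  let π : V ⟶ W := V.toSpecΓ
  have hπΓ : IsIso π.appTop := by
    show IsIso V.toSpecΓ.appTop
    rw [Scheme.toSpecΓ_appTop]
    infer_instance
  obtain ⟨fW, hfW⟩ := exists_factor_of_isIso_appTop π f
  have hπS : π ≫ fW ≫ p = f ≫ p := by rw [reassoc_of% hfW]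
  -- pairs
  have : IsAffineHom (src p f) := MorphismProperty.pullback_fst _ _ inferInstance
  have : IsAffineHom (src p fW) := MorphismProperty.pullback_fst _ _ inferInstance
  have : CompactSpace (Pairs p f) := QuasiCompact.compactSpace_of_compactSpace (src p f)
  have : QuasiSeparatedSpace (Pairs p f) := quasiSeparatedSpace_of_quasiSeparated (src p f)
  have : IsAffine (Pairs p fW) := isAffine_of_isAffineHom (src p fW)
  let π₁ : Pairs p f ⟶ Pairs p fW := pairMap p π (f ≫ p) (fW ≫ p) hπS
  have hπ₁Γ : IsIso π₁.appTop := isIso_appTop_pairMap p π _ _ hπS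
  have hπ₁s : π₁ ≫ src p fW = src p f ≫ π := pullback.lift_fst _ _ _
  have hπ₁x : π₁ ≫ pt p fW = pt p f := pullback.lift_snd _ _ _
  -- triples
  have hπ₂S : π₁ ≫ src p fW ≫ fW ≫ p = src p f ≫ f ≫ p := by rw [reassoc_of% hπ₁s, hπS]
  have : IsAffineHom (proj p f) := MorphismProperty.pullback_fst _ _ inferInstance
  have : IsAffineHom (proj p fW) := MorphismProperty.pullback_fst _ _ inferInstance
  have : IsAffine (Triples p fW) := isAffine_of_isAffineHom (proj p fW)
  let π₂ : Triples p f ⟶ Triples p fW :=
    pairMap p π₁ (src p f ≫ f ≫ p) (src p fW ≫ fW ≫ p) hπ₂S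
  have hπ₂Γ : IsIso π₂.appTop := isIso_appTop_pairMap p π₁ _ _ hπ₂S
  have hπ₂p : π₂ ≫ proj p fW = proj p f ≫ π₁ := pullback.lift_fst _ _ _
  have hπ₂l : π₂ ≫ last p fW = last p f := pullback.lift_snd _ _ _
  obtain ⟨t, ht⟩ := exists_factor_of_isIso_appTop π₁ (P.map ≫ π)
  have htf : t ≫ fW = pt p fW := by
    apply ext_of_isIso_appTop π₁
    rw [reassoc_of% ht, hfW, P.map_f, hπ₁x]
  have key : ∀ {T : Scheme.{u}} (l : T ⟶ Pairs p f) (l' : T ⟶ Pairs p fW),
      l ≫ src p f ≫ π = l' ≫ src p fW → l ≫ pt p f = l' ≫ pt p fW →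
      l' ≫ t = l ≫ P.map ≫ π := by
    intro T l l' e1 e2
    have : l' = l ≫ π₁ := pullback.hom_ext (by rw [Category.assoc, hπ₁s, e1])
      (by rw [Category.assoc, hπ₁x, e2])
    rw [this, Category.assoc, ht]
  let Q : Pre p fW := Pre.ofMap t htf
    (by
      apply ext_of_isIso_appTop π
      rw [← Category.assoc, key (pullback.lift (𝟙 V) f (Category.id_comp _)) _ (by
        rw [pullback.lift_fst_assoc, Category.id_comp, Category.assoc, pullback.lift_fst,
          Category.comp_id]) (by rw [pullback.lift_snd, Category.assoc, pullback.lift_snd, hfW]),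
        reassoc_of% P.map_self, Category.comp_id])
    (by
      apply ext_of_isIso_appTop π₂
      rw [← Category.assoc, ← Category.assoc,
        key (pullback.lift (proj p f ≫ P.map) (last p f) (triples_cond' P.map P.map_f)) _ ?_ ?_,
        key (pullback.lift (proj p f ≫ src p f) (last p f) triples_cond) _ ?_ ?_,
        reassoc_of% P.map_comp]
      · rw [pullback.lift_fst_assoc, Category.assoc, Category.assoc, pullback.lift_fst,
          reassoc_of% hπ₂p, hπ₁s]
      · rw [pullback.lift_snd, Category.assoc, pullback.lift_snd, hπ₂l]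
      · rw [pullback.lift_fst_assoc, Category.assoc, Category.assoc, pullback.lift_fst,
          reassoc_of% hπ₂p, ht]
      · rw [pullback.lift_snd, Category.assoc, pullback.lift_snd, hπ₂l])
  refine effective_of_openImmersion P Q π hfW (fun {T} v x h h' => ?_) (effective_of_affine Q)
  rw [P.act_eq_map, Category.assoc]
  refine (key (pullback.lift v x h) (pullback.lift (v ≫ π) x h') ?_ ?_).symm
  · rw [pullback.lift_fst_assoc, pullback.lift_fst]
  · rw [pullback.lift_snd, pullback.lift_snd]

end Groth.L20.SchDesc
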