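import Groth.Agent.L20.SchDesc.Family
import Groth.Agent.L20.SchDesc.Main

/-!
# Reduction of effectivity to flat surjections of affine schemes
-/

set_option autoImplicit false
set_option linter.style.haveILetI false
set_option backward.isDefEq.respectTransparency.types false

universe u

open CategoryTheory Limits AlgebraicGeometry TopologicalSpace

namespace Groth.L20.SchDesc

variable {X S V : Scheme.{u}} {p : X ⟶ S} {f : V ⟶ X}

/-- A datum in the form of an action as a descent datum. -/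
def toSchDD (P : Pre p f) : Desc.SchDD p where
  obj := Over.mk f
  φ T x₀ x₁ h :=
    { toFun := fun v => ⟨P.act v.1 x₁ ((Category.assoc _ _ _).symm.trans
        ((congrArg (· ≫ p) v.2).trans h)), P.hom _ _ _⟩
      invFun := fun v => ⟨P.act v.1 x₀ ((Category.assoc _ _ _).symm.trans
        ((congrArg (· ≫ p) v.2).trans h.symm)), P.hom _ _ _⟩
      left_inv := fun v => Subtype.ext
        ((P.comp _ _ _ _ _ ((Category.assoc _ _ _).symm.trans (congrArg (· ≫ p) v.2))).trans
          ((P.act_congr rfl v.2.symm _ (Category.assoc _ _ _).symm).trans (P.self _ _)))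
      right_inv := fun v => Subtype.ext
        ((P.comp _ _ _ _ _ ((Category.assoc _ _ _).symm.trans (congrArg (· ≫ p) v.2))).trans
          ((P.act_congr rfl v.2.symm _ (Category.assoc _ _ _).symm).trans (P.self _ _))) }
  φ_natural T T' g x₀ x₁ h h' v v' hv :=
    (P.natural' g _ _ _ _ hv.symm rfl).symm
  φ_self T x v := Subtype.ext
    ((P.act_congr rfl v.2.symm _ (Category.assoc _ _ _).symm).trans (P.self _ _))
  φ_comp T x₀ x₁ x₂ h₀ h₁ v := Subtype.ext (P.comp _ _ _ _ _ _)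

theorem effective_of_toSchDD (P : Pre p f) (h : Effective (ofSchDD (toSchDD P))) : Effective P := by
  obtain ⟨d⟩ := h
  exact ⟨⟨d.U, d.a, d.q, d.isPullback, fun v x e => d.comm v x e⟩⟩

/-- Effectivity along coverings follows from effectivity along flat surjections of affine
schemes. -/
theorem effective_of_affine_descent [Cov p] (Q : MorphismProperty Scheme.{u})
    (h3 : ∀ (X S : Scheme.{u}) (p : X ⟶ S), IsAffine X → IsAffine S → Flat p → Surjective p →
      ∀ D : Desc.SchDD p, Q D.obj.hom → ∃ U : Over S, Nonempty ((Desc.toDD p).obj U ≅ D))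
    [Q.IsStableUnderBaseChange]
    (hf : ∀ (Y : Scheme.{u}) (h : Y ⟶ X), IsAffine Y → Q (pullback.snd f h))
    (P : Pre p f) : Effective P := by
  refine effective_of_cover P fun v => ?_
  obtain ⟨W, hW, hv, -⟩ :=
    exists_isAffineOpen_mem_and_subset (X := S) (x := p (f v)) (U := ⊤) trivial
  have hO : Stable P (f ⁻¹ᵁ p ⁻¹ᵁ W) := by
    intro T w x e hw
    rintro _ ⟨t, rfl⟩
    show p (f (P.act w x e t)) ∈ W
    have h1 : (P.act w x e ≫ f ≫ p) t = (w ≫ f ≫ p) t := by rw [P.hom_p, e]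
    simp only [Scheme.Hom.comp_apply] at h1
    rw [h1]
    exact hw ⟨t, rfl⟩
  refine ⟨f ⁻¹ᵁ p ⁻¹ᵁ W, hv, hO, ?_⟩
  have : IsAffine W := hW
  have : Cov (p ∣_ W) := Cov.of_isPullback (isPullback_morphismRestrict p W).flip
  refine effective_of_ofBase _ (isPullback_morphismRestrict p W).flip (f' := f ∣_ p ⁻¹ᵁ W)
    (morphismRestrict_ι f _) ?_
  obtain ⟨Y, h, hY, _, _⟩ := exists_affine_chart (p := p ∣_ W)
  have : IsAffineHom (h ≫ p ∣_ W) := isAffineHom_of_isAffine _
  refine effective_of_chart _ h (effective_of_toSchDD _ ?_)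
  have hQ : Q (pullback.snd (f ∣_ p ⁻¹ᵁ W) h) := by
    have h' := (IsPullback.of_hasPullback (f ∣_ p ⁻¹ᵁ W) h).paste_horiz
      (isPullback_morphismRestrict f (p ⁻¹ᵁ W)).flip
    rw [← IsPullback.isoIsPullback_hom_snd _ _ h' (IsPullback.of_hasPullback f (h ≫ (p ⁻¹ᵁ W).ι))]
    exact MorphismProperty.RespectsIso.precomp Q _ _ (hf Y (h ≫ (p ⁻¹ᵁ W).ι) hY)
  obtain ⟨U, ⟨e⟩⟩ := h3 Y W (h ≫ p ∣_ W) hY hW inferInstance inferInstance (toSchDD _) hQ
  exact effective_of_iso _ e

theorem exists_sigmaι_eq_fin {m : ℕ} {A : Fin m → Scheme.{u}} (x : ↥(∐ A)) :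
    ∃ i y, Sigma.ι A i y = x :=
  (sigmaOpenCover A).exists_eq x

/-- The base change of a sum along an affine scheme has a property closed under finite sums. -/
theorem sigmaMap_baseChange_affine (Q : MorphismProperty Scheme.{u}) [Q.IsStableUnderBaseChange]
    (h2 : ∀ (m : ℕ) (Y V : Fin m → Scheme.{u}) (q : ∀ j, Y j ⟶ V j), (∀ j, Q (q j)) →
      Q (Limits.Sigma.map q))
    {κ : Type u} {A B : κ → Scheme.{u}} (g : ∀ i, A i ⟶ B i) (hg : ∀ i, Q (g i))
    (Y : Scheme.{u}) (h : Y ⟶ ∐ B) [IsAffine Y] : Q (pullback.snd (Limits.Sigma.map g) h) := by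
  classical
  obtain ⟨s, hs⟩ := (isCompact_univ (X := Y)).elim_finite_subcover
    (fun i => ((h ⁻¹ᵁ (Sigma.ι B i).opensRange : Y.Opens) : Set Y)) (fun i => (h ⁻¹ᵁ _).2)
    (fun y _ => by
      obtain ⟨i, b, hb⟩ := exists_sigmaι_eq (h y)
      exact Set.mem_iUnion.2 ⟨i, b, hb⟩)
  let a : Fin s.card → κ := fun k => ((s.equivFin).symm k).1
  have hinj : Function.Injective a := fun k l e => (s.equivFin).symm.injective (Subtype.ext e)
  let j : (∐ fun k => B (a k)) ⟶ ∐ B := Sigma.desc fun k => Sigma.ι B (a k)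
  have : IsOpenImmersion j := isOpenImmersion_sigmaDesc _ _ fun k l hkl => by
    rw [Function.onFun, Set.disjoint_iff_forall_ne]
    rintro _ ⟨b, rfl⟩ _ ⟨b', rfl⟩ e
    exact hkl (hinj (eq_of_sigmaι_eq e))
  let i' : (∐ fun k => A (a k)) ⟶ ∐ A := Sigma.desc fun k => Sigma.ι A (a k)
  have : IsOpenImmersion i' := isOpenImmersion_sigmaDesc _ _ fun k l hkl => by
    rw [Function.onFun, Set.disjoint_iff_forall_ne]
    rintro _ ⟨b, rfl⟩ _ ⟨b', rfl⟩ e
    exact hkl (hinj (eq_of_sigmaι_eq e))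
  have hsq : IsPullback (Limits.Sigma.map fun k => g (a k)) i' j (Limits.Sigma.map g) := by
    refine IsOpenImmersion.isPullback _ _ _ _ (Sigma.hom_ext _ _ fun k => by simp [i', j]) ?_
    refine Opens.ext (Set.Subset.antisymm ?_ ?_)
    · rintro z ⟨w, hw⟩
      obtain ⟨k, b, rfl⟩ := exists_sigmaι_eq_fin w
      obtain ⟨i, c, rfl⟩ := exists_sigmaι_eq z
      rw [← Scheme.Hom.comp_apply, Sigma.ι_desc, ← Scheme.Hom.comp_apply, Sigma.ι_map,
        Scheme.Hom.comp_apply] at hw
      obtain rfl := eq_of_sigmaι_eq hw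
      exact ⟨Sigma.ι (fun k => A (a k)) k c, by rw [← Scheme.Hom.comp_apply, Sigma.ι_desc]⟩
    · rintro _ ⟨z, rfl⟩
      exact ⟨(Limits.Sigma.map fun k => g (a k)) z, by
        rw [← Scheme.Hom.comp_apply, ← Scheme.Hom.comp_apply]
        exact congrArg (fun m : (∐ fun k => A (a k)) ⟶ ∐ B => m z)
          (Sigma.hom_ext _ _ fun k => by simp [i', j])⟩
  let l : Y ⟶ ∐ fun k => B (a k) := IsOpenImmersion.lift j h (by
    rintro _ ⟨y, rfl⟩
    obtain ⟨i, hi, b, hb⟩ := Set.mem_iUnion₂.1 (hs (Set.mem_univ y))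
    obtain ⟨k, rfl⟩ : ∃ k, a k = i := ⟨s.equivFin ⟨i, hi⟩, by simp [a]⟩
    exact ⟨Sigma.ι (fun k => B (a k)) k b, by
      rw [← Scheme.Hom.comp_apply, Sigma.ι_desc, hb]⟩)
  have hl : l ≫ j = h := IsOpenImmersion.lift_fac _ _ _
  let e := pullback.map (Limits.Sigma.map fun k => g (a k)) l (Limits.Sigma.map g) h i' (𝟙 _) j
    hsq.w (by rw [Category.id_comp, hl])
  have he : IsPullback (pullback.fst (Limits.Sigma.map fun k => g (a k)) l ≫ i')
      (pullback.snd (Limits.Sigma.map fun k => g (a k)) l) (Limits.Sigma.map g) h := by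
    have := (IsPullback.of_hasPullback (Limits.Sigma.map fun k => g (a k)) l).paste_horiz hsq.flip
    rwa [hl] at this
  rw [← IsPullback.isoIsPullback_hom_snd _ _ (IsPullback.of_hasPullback _ _) he]
  exact MorphismProperty.RespectsIso.precomp Q _ _
    (MorphismProperty.pullback_snd _ _ (h2 _ _ _ _ fun k => hg (a k)))

end Groth.L20.SchDesc
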