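import Groth.Prelude.Def_Desc
import Mathlib.AlgebraicGeometry.OpenImmersion
import Mathlib.CategoryTheory.Limits.Shapes.Pullback.IsPullback.Basic

/-!
# Descent data for schemes as actions

A descent datum relative to `p : X ⟶ S` on `f : V ⟶ X` moves a point `v` of `V` to the point over
`x` for every point `x` of `X` with the same image in `S`. It is effective when it comes from a
cartesian square over a scheme over `S`.
-/

set_option autoImplicit false
set_option linter.style.haveILetI false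
set_option backward.isDefEq.respectTransparency.types false

universe u

open CategoryTheory Limits AlgebraicGeometry

namespace Groth.L20.SchDesc

/-- A descent datum on `f : V ⟶ X` relative to `p : X ⟶ S`. -/
structure Pre {X S V : Scheme.{u}} (p : X ⟶ S) (f : V ⟶ X) where
  act : ∀ {T : Scheme.{u}} (v : T ⟶ V) (x : T ⟶ X), v ≫ f ≫ p = x ≫ p → (T ⟶ V)
  hom : ∀ {T : Scheme.{u}} (v : T ⟶ V) (x : T ⟶ X) (h : v ≫ f ≫ p = x ≫ p), act v x h ≫ f = x
  natural : ∀ {T T' : Scheme.{u}} (g : T' ⟶ T) (v : T ⟶ V) (x : T ⟶ X) (h : v ≫ f ≫ p = x ≫ p)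
    (h' : (g ≫ v) ≫ f ≫ p = (g ≫ x) ≫ p), act (g ≫ v) (g ≫ x) h' = g ≫ act v x h
  self : ∀ {T : Scheme.{u}} (v : T ⟶ V) (h : v ≫ f ≫ p = (v ≫ f) ≫ p), act v (v ≫ f) h = v
  comp : ∀ {T : Scheme.{u}} (v : T ⟶ V) (x y : T ⟶ X) (h : v ≫ f ≫ p = x ≫ p)
    (h' : act v x h ≫ f ≫ p = y ≫ p) (h'' : v ≫ f ≫ p = y ≫ p),
    act (act v x h) y h' = act v y h''

variable {X S V : Scheme.{u}} {p : X ⟶ S} {f : V ⟶ X}

namespace Pre

theorem act_congr (P : Pre p f) {T : Scheme.{u}} {v v' : T ⟶ V} {x x' : T ⟶ X} (hv : v = v')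
    (hx : x = x') (h : v ≫ f ≫ p = x ≫ p) (h' : v' ≫ f ≫ p = x' ≫ p) :
    P.act v x h = P.act v' x' h' := by
  subst hv hx; rfl

theorem hom_p (P : Pre p f) {T : Scheme.{u}} (v : T ⟶ V) (x : T ⟶ X) (h : v ≫ f ≫ p = x ≫ p) :
    P.act v x h ≫ f ≫ p = x ≫ p :=
  (Category.assoc _ _ _).symm.trans (congrArg (· ≫ p) (P.hom v x h))

theorem natural' (P : Pre p f) {T T' : Scheme.{u}} (g : T' ⟶ T) (v : T ⟶ V) (x : T ⟶ X)
    (h : v ≫ f ≫ p = x ≫ p) {v' : T' ⟶ V} {x' : T' ⟶ X} (h' : v' ≫ f ≫ p = x' ≫ p)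
    (hv : g ≫ v = v') (hx : g ≫ x = x') : g ≫ P.act v x h = P.act v' x' h' := by
  subst hv hx; exact (P.natural g v x h h').symm

end Pre

/-- The action attached to a descent datum in functor-of-points form. -/
def ofSchDD (D : Desc.SchDD p) : Pre p D.obj.hom where
  act v x h := (D.φ (v ≫ D.obj.hom) x ((Category.assoc _ _ _).trans h) ⟨v, rfl⟩).1
  hom v x h := (D.φ (v ≫ D.obj.hom) x ((Category.assoc _ _ _).trans h) ⟨v, rfl⟩).2
  natural g v x h h' := by
    have key : ∀ (x₀ : _ ⟶ X) (e : (g ≫ v) ≫ D.obj.hom = x₀) (e' : x₀ = g ≫ v ≫ D.obj.hom)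
        (hh : x₀ ≫ p = (g ≫ x) ≫ p),
        (D.φ x₀ (g ≫ x) hh ⟨g ≫ v, e⟩).1 = g ≫ (D.φ (v ≫ D.obj.hom) x
          ((Category.assoc _ _ _).trans h) ⟨v, rfl⟩).1 := by
      intro x₀ e e' hh
      subst e'
      exact D.φ_natural g (v ≫ D.obj.hom) x ((Category.assoc _ _ _).trans h) hh ⟨v, rfl⟩ ⟨g ≫ v, e⟩
        rfl
    exact key _ rfl (Category.assoc _ _ _) _
  self v h := congrArg Subtype.val (D.φ_self (v ≫ D.obj.hom) ⟨v, rfl⟩)
  comp v x y h h' h'' := by
    have key : ∀ (x₁ : _ ⟶ X) (w : Desc.Lifts D.obj x₁) (hh : (w.1 ≫ D.obj.hom) ≫ p = y ≫ p)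
        (hh' : x₁ ≫ p = y ≫ p), (D.φ (w.1 ≫ D.obj.hom) y hh ⟨w.1, rfl⟩).1 = (D.φ x₁ y hh' w).1 := by
      intro x₁ w hh hh'
      obtain ⟨w, rfl⟩ := w
      rfl
    refine (key x (D.φ (v ≫ D.obj.hom) x ((Category.assoc _ _ _).trans h) ⟨v, rfl⟩)
      ((Category.assoc _ _ _).trans h') (h.symm.trans h'')).trans ?_
    exact congrArg Subtype.val (D.φ_comp (v ≫ D.obj.hom) x y _ _ ⟨v, rfl⟩)

theorem ofSchDD_act_eq (D : Desc.SchDD p) {T : Scheme.{u}} {x₀ : T ⟶ X} (w : Desc.Lifts D.obj x₀)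
    (x : T ⟶ X) (h : x₀ ≫ p = x ≫ p) {v : T ⟶ D.obj.left} (hv : w.1 = v)
    (h' : v ≫ D.obj.hom ≫ p = x ≫ p) :
    (D.φ x₀ x h w).1 = (ofSchDD D).act v x h' := by
  obtain ⟨w, rfl⟩ := w
  subst hv
  rfl

/-- A scheme over `S` realising the descent datum. -/
structure Descent (P : Pre p f) where
  U : Scheme.{u}
  a : U ⟶ S
  q : V ⟶ U
  isPullback : IsPullback f q p a
  comm : ∀ {T : Scheme.{u}} (v : T ⟶ V) (x : T ⟶ X) (h : v ≫ f ≫ p = x ≫ p),
    P.act v x h ≫ q = v ≫ q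

/-- The descent datum is effective. -/
def Effective (P : Pre p f) : Prop := Nonempty (Descent P)

/-- Two points with the same image downstairs are related by the action. -/
theorem Descent.act_eq {P : Pre p f} (d : Descent P) {T : Scheme.{u}} (g₁ g₂ : T ⟶ V)
    (e : g₁ ≫ d.q = g₂ ≫ d.q) (h : g₁ ≫ f ≫ p = (g₂ ≫ f) ≫ p) :
    P.act g₁ (g₂ ≫ f) h = g₂ :=
  d.isPullback.hom_ext (P.hom _ _ _) ((d.comm _ _ h).trans e)

theorem Descent.cond {P : Pre p f} (d : Descent P) {T : Scheme.{u}} (g₁ g₂ : T ⟶ V)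
    (e : g₁ ≫ d.q = g₂ ≫ d.q) : g₁ ≫ f ≫ p = (g₂ ≫ f) ≫ p := by
  rw [Category.assoc, d.isPullback.w, ← Category.assoc, e, Category.assoc]

theorem canMap_fst {U : Over S} {T : Scheme.{u}} (x₀ x₁ : T ⟶ X) (h : x₀ ≫ p = x₁ ≫ p)
    (v : Desc.Lifts (Over.mk (pullback.fst p U.hom)) x₀) :
    (Desc.canMap p U x₀ x₁ h v).1 ≫ pullback.fst p U.hom = x₁ :=
  pullback.lift_fst _ _ _

theorem canMap_snd {U : Over S} {T : Scheme.{u}} (x₀ x₁ : T ⟶ X) (h : x₀ ≫ p = x₁ ≫ p)
    (v : Desc.Lifts (Over.mk (pullback.fst p U.hom)) x₀) :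
    (Desc.canMap p U x₀ x₁ h v).1 ≫ pullback.snd p U.hom = v.1 ≫ pullback.snd p U.hom :=
  pullback.lift_snd _ _ _

variable (p) in
/-- The descended scheme of a canonical datum. -/
noncomputable def toDDDescent (U : Over S) : Descent (ofSchDD ((Desc.toDD p).obj U)) where
  U := U.left
  a := U.hom
  q := pullback.snd p U.hom
  isPullback := IsPullback.of_hasPullback p U.hom
  comm v x h := canMap_snd (v ≫ pullback.fst p U.hom) x ((Category.assoc _ _ _).trans h) ⟨v, rfl⟩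

/-- An effective datum is isomorphic to a canonical one. -/
theorem exists_iso_toDD (D : Desc.SchDD p) (h : Effective (ofSchDD D)) :
    ∃ U : Over S, Nonempty ((Desc.toDD p).obj U ≅ D) := by
  obtain ⟨d⟩ := h
  let e : D.obj.left ≅ pullback p d.a := d.isPullback.isoPullback
  refine ⟨Over.mk d.a, ⟨{
    hom := ⟨Over.homMk e.inv d.isPullback.isoPullback_inv_fst, fun T x₀ x₁ h v w hw => ?_⟩
    inv := ⟨Over.homMk e.hom d.isPullback.isoPullback_hom_fst, fun T x₀ x₁ h v w hw => ?_⟩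
    hom_inv_id := Desc.SchDD.hom_ext (Over.OverMorphism.ext e.inv_hom_id)
    inv_hom_id := Desc.SchDD.hom_ext (Over.OverMorphism.ext e.hom_inv_id) }⟩⟩
  · obtain ⟨w, hw'⟩ := w
    subst hw'
    have hw2 : w = v.1 ≫ e.inv := hw
    apply d.isPullback.hom_ext
    · refine ((ofSchDD D).hom w x₁ ((Category.assoc _ _ _).symm.trans h)).trans ?_
      exact ((Category.assoc _ _ _).trans
        ((congrArg ((Desc.canMap p (Over.mk d.a) _ x₁ h v).1 ≫ ·)
          d.isPullback.isoPullback_inv_fst).trans (canMap_fst _ x₁ h v))).symm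
    · refine (d.comm w x₁ ((Category.assoc _ _ _).symm.trans h)).trans ?_
      refine ((congrArg (· ≫ d.q) hw2).trans ((Category.assoc _ _ _).trans
        (congrArg (v.1 ≫ ·) d.isPullback.isoPullback_inv_snd))).trans ?_
      exact ((Category.assoc _ _ _).trans
        ((congrArg ((Desc.canMap p (Over.mk d.a) _ x₁ h v).1 ≫ ·)
          d.isPullback.isoPullback_inv_snd).trans (canMap_snd _ x₁ h v))).symm
  · obtain ⟨v, hv⟩ := v
    subst hv
    have hw2 : w.1 = v ≫ e.hom := hw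
    show (Desc.canMap p (Over.mk d.a) _ x₁ h w).1 = _
    apply pullback.hom_ext
    · refine (canMap_fst _ x₁ h w).trans ?_
      exact (((Category.assoc _ _ _).trans (congrArg ((D.φ _ x₁ h ⟨v, rfl⟩).1 ≫ ·)
        d.isPullback.isoPullback_hom_fst)).trans (D.φ _ x₁ h ⟨v, rfl⟩).2).symm
    · refine ((canMap_snd _ x₁ h w).trans ((congrArg (· ≫ pullback.snd p d.a) hw2).trans
        ((Category.assoc _ _ _).trans (congrArg (v ≫ ·) d.isPullback.isoPullback_hom_snd)))).trans ?_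
      exact (((Category.assoc _ _ _).trans (congrArg ((D.φ _ x₁ h ⟨v, rfl⟩).1 ≫ ·)
        d.isPullback.isoPullback_hom_snd)).trans
          (d.comm v x₁ ((Category.assoc _ _ _).symm.trans h))).symm

/-- A datum isomorphic to a canonical one is effective. -/
theorem effective_of_iso (D : Desc.SchDD p) {U : Over S} (e : (Desc.toDD p).obj U ≅ D) :
    Effective (ofSchDD D) := by
  let η : pullback p U.hom ≅ D.obj.left :=
    { hom := e.hom.hom.left
      inv := e.inv.hom.left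
      hom_inv_id := congrArg (fun m : Desc.SchDD.Hom _ _ => m.hom.left) e.hom_inv_id
      inv_hom_id := congrArg (fun m : Desc.SchDD.Hom _ _ => m.hom.left) e.inv_hom_id }
  refine ⟨⟨U.left, U.hom, η.inv ≫ pullback.snd p U.hom, ?_, fun {T} v x h => ?_⟩⟩
  · refine IsPullback.of_iso (IsPullback.of_hasPullback p U.hom) η (Iso.refl _) (Iso.refl _)
      (Iso.refl _) ?_ ?_ (by simp) (by simp)
    · simp only [Iso.refl_hom, Category.comp_id]
      exact (Over.w e.hom.hom).symm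
    · exact (Category.comp_id _).trans (η.hom_inv_id_assoc _).symm
  · have hc := e.inv.comm (v ≫ D.obj.hom) x ((Category.assoc _ _ _).trans h) ⟨v, rfl⟩
      (e.inv.push ⟨v, rfl⟩) rfl
    have hc' := congrArg (fun m => m ≫ pullback.snd p U.hom) hc
    refine (Category.assoc _ _ _).symm.trans (hc'.symm.trans ?_)
    exact (canMap_snd (v ≫ D.obj.hom) x ((Category.assoc _ _ _).trans h) _).trans
      (Category.assoc _ _ _)

/-- An open of `V` is stable if the action keeps it. -/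
def Stable (P : Pre p f) (O : V.Opens) : Prop :=
  ∀ (T : Scheme.{u}) (v : T ⟶ V) (x : T ⟶ X) (h : v ≫ f ≫ p = x ≫ p),
    Set.range v ⊆ (O : Set V) → Set.range (P.act v x h) ⊆ (O : Set V)

theorem cond_assoc {V' T : Scheme.{u}} (i : V' ⟶ V) (v : T ⟶ V') {x : T ⟶ X}
    (h : v ≫ (i ≫ f) ≫ p = x ≫ p) : (v ≫ i) ≫ f ≫ p = x ≫ p := by simpa using h

/-- The datum on a stable open. -/
noncomputable def restrict (P : Pre p f) {O : V.Opens} (hO : Stable P O) : Pre p (O.ι ≫ f) where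
  act v x h := IsOpenImmersion.lift O.ι (P.act (v ≫ O.ι) x (cond_assoc O.ι v h)) (by
    rw [Scheme.Opens.range_ι]
    exact hO _ _ _ _ (by rintro _ ⟨t, rfl⟩; exact (v t).2))
  hom v x h := (Category.assoc _ _ _).symm.trans
    ((congrArg (· ≫ f) (IsOpenImmersion.lift_fac _ _ _)).trans (P.hom _ _ _))
  natural g v x h h' := (cancel_mono O.ι).1 <| (IsOpenImmersion.lift_fac _ _ _).trans <|
    ((Category.assoc _ _ _).trans ((congrArg (g ≫ ·) (IsOpenImmersion.lift_fac _ _ _)).trans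
      (P.natural' g _ _ _ _ (Category.assoc _ _ _).symm rfl))).symm
  self v h := (cancel_mono O.ι).1 <| (IsOpenImmersion.lift_fac _ _ _).trans <|
    (P.act_congr rfl (Category.assoc _ _ _).symm _ (Category.assoc _ _ _).symm).trans
      (P.self (v ≫ O.ι) _)
  comp v x y h h' h'' := (cancel_mono O.ι).1 <| (IsOpenImmersion.lift_fac _ _ _).trans <|
    ((P.act_congr (IsOpenImmersion.lift_fac _ _ _) rfl _ ((P.hom_p _ _ _).trans
      (((congrArg (· ≫ p) ((Category.assoc _ _ _).symm.trans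
        ((congrArg (· ≫ f) (IsOpenImmersion.lift_fac _ _ _)).trans (P.hom _ _ _)))).symm.trans
          (Category.assoc _ _ _)).trans h'))).trans
      (P.comp _ x y _ _ (cond_assoc O.ι v h''))).trans (IsOpenImmersion.lift_fac _ _ _).symm

theorem restrict_act_ι (P : Pre p f) {O : V.Opens} (hO : Stable P O) {T : Scheme.{u}}
    (v : T ⟶ O) (x : T ⟶ X) (h : v ≫ (O.ι ≫ f) ≫ p = x ≫ p) :
    (restrict P hO).act v x h ≫ O.ι = P.act (v ≫ O.ι) x (cond_assoc O.ι v h) :=
  IsOpenImmersion.lift_fac _ _ _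

/-- The datum over a monomorphism `S' ⟶ S`, when `f` factors through `X ×_S S'`. -/
def ofBase (P : Pre p f) {X' S' : Scheme.{u}} {j : X' ⟶ X} {p' : X' ⟶ S'} {i : S' ⟶ S} [Mono j]
    (hsq : j ≫ p = p' ≫ i) {f' : V ⟶ X'} (hf : f' ≫ j = f) : Pre p' f' where
  act v x h := P.act v (x ≫ j) (by
    subst hf
    rw [Category.assoc, hsq, Category.assoc, hsq, ← Category.assoc f', ← Category.assoc v, h,
      Category.assoc])
  hom v x h := by
    subst hf
    rw [← cancel_mono j, Category.assoc, P.hom]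
  natural g v x h h' := (P.natural' g _ _ _ _ rfl (Category.assoc _ _ _).symm).symm
  self v h := by
    subst hf
    refine (P.act_congr rfl (Category.assoc _ _ _) _ ?_).trans (P.self v ?_) <;>
      simp [hsq]
  comp v x y h h' h'' := P.comp _ _ _ _ _ _

theorem effective_of_ofBase (P : Pre p f) {X' S' : Scheme.{u}} {j : X' ⟶ X} {p' : X' ⟶ S'}
    {i : S' ⟶ S} [Mono j] (hpb : IsPullback j p' p i) {f' : V ⟶ X'} (hf : f' ≫ j = f)
    (h : Effective (ofBase P hpb.w hf)) : Effective P := by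
  obtain ⟨d⟩ := h
  refine ⟨⟨d.U, d.a ≫ i, d.q, ?_, fun {T} v x hh => ?_⟩⟩
  · have h' := d.isPullback.paste_horiz hpb.flip.flip
    rw [hf] at h'
    exact h'
  · have hv : ((v ≫ f' ≫ p') ≫ i) = x ≫ p := by
      subst hf
      rw [← hh, Category.assoc, Category.assoc, Category.assoc, hpb.w]
    let x' : T ⟶ X' := hpb.lift x (v ≫ f' ≫ p') hv.symm
    refine Eq.trans ?_ (d.comm v x' (hpb.lift_snd _ _ _).symm)
    exact congrArg (· ≫ d.q) (P.act_congr rfl (hpb.lift_fst _ _ _).symm _ _)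

/-- Transport along an isomorphism of the total space. -/
def ofIso (P : Pre p f) {V' : Scheme.{u}} (e : V' ≅ V) : Pre p (e.hom ≫ f) where
  act v x h := P.act (v ≫ e.hom) x (by simpa using h) ≫ e.inv
  hom v x h := by rw [Category.assoc, Iso.inv_hom_id_assoc, P.hom]
  natural g v x h h' := by
    rw [← cancel_mono e.hom]
    simp only [Category.assoc, Iso.inv_hom_id, Category.comp_id]
    exact (P.natural' g _ _ _ _ (Category.assoc _ _ _).symm rfl).symm
  self v h := by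
    rw [← cancel_mono e.hom, Category.assoc, Iso.inv_hom_id, Category.comp_id]
    refine (P.act_congr rfl (Category.assoc _ _ _).symm _ ?_).trans (P.self (v ≫ e.hom) ?_) <;> simp
  comp v x y h h' h'' := by
    congr 1
    refine (P.act_congr (by rw [Category.assoc, Iso.inv_hom_id, Category.comp_id]) rfl _ ?_).trans
      (P.comp _ x y _ _ _)
    rw [← Category.assoc, P.hom]
    exact h.symm.trans h''

theorem effective_of_ofIso (P : Pre p f) {V' : Scheme.{u}} (e : V' ≅ V)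
    (h : Effective (ofIso P e)) : Effective P := by
  obtain ⟨d⟩ := h
  refine ⟨⟨d.U, d.a, e.inv ≫ d.q, ?_, fun {T} v x hh => ?_⟩⟩
  · exact IsPullback.of_iso d.isPullback e (Iso.refl _) (Iso.refl _) (Iso.refl _) (by simp)
      (by simp) (by simp) (by simp)
  · rw [← Category.assoc, ← Category.assoc]
    refine Eq.trans ?_ (d.comm (v ≫ e.inv) x (by simpa using hh))
    exact congrArg (fun m => (m ≫ e.inv) ≫ d.q)
      (P.act_congr (by rw [Category.assoc, Iso.inv_hom_id, Category.comp_id]) rfl _ _)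

end Groth.L20.SchDesc
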