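import Groth.Agent.L20.SchDesc.AffineReduce
import Groth.Agent.L23.Epi
import Groth.Agent.L24.Boot.EtaleCharts
import Mathlib.CategoryTheory.Sites.LocallySurjective

/-!
# Representable maps of sheaves from descent of schemes

A map to a sheaf `F` whose base change along an etale surjective chart is representable with a
property satisfying effective fppf descent is representable with that property.
-/

set_option autoImplicit false
set_option linter.style.haveILetI false
set_option backward.isDefEq.respectTransparency.types false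

universe u

open CategoryTheory CategoryTheory.Limits AlgebraicGeometry AlgSp

noncomputable section

namespace Groth.L20.SchDesc

variable {S : Scheme.{u}} {G : Sp S} {V : Over S} (γ : (yon S).obj V ⟶ G)

/-- Two points with the same image in the sheaf. -/
def SameImg {T : Scheme.{u}} (v w : T ⟶ V.left) : Prop :=
  ∃ h : w ≫ V.hom = v ≫ V.hom,
    (yon S).map (Over.homMk v rfl : Over.mk (v ≫ V.hom) ⟶ V) ≫ γ =
      (yon S).map (Over.homMk w h : Over.mk (v ≫ V.hom) ⟶ V) ≫ γ

theorem sameImg_iff {T : Over S} (v w : T ⟶ V) :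
    SameImg γ v.left w.left ↔ (yon S).map v ≫ γ = (yon S).map w ≫ γ := by
  let i : T ⟶ Over.mk (v.left ≫ V.hom) :=
    Over.homMk (𝟙 T.left) ((Category.id_comp _).trans (Over.w v))
  let j : Over.mk (v.left ≫ V.hom) ⟶ T :=
    Over.homMk (𝟙 T.left) ((Category.id_comp _).trans (Over.w v).symm)
  constructor
  · rintro ⟨hw, e⟩
    rw [show v = i ≫ Over.homMk v.left rfl from Over.OverMorphism.ext (Category.id_comp _).symm,
      show w = i ≫ Over.homMk w.left hw from Over.OverMorphism.ext (Category.id_comp _).symm,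
      Functor.map_comp, Category.assoc, e, Functor.map_comp, Category.assoc]
  · intro e
    refine ⟨(Over.w w).trans (Over.w v).symm, ?_⟩
    rw [show (Over.homMk v.left rfl : Over.mk (v.left ≫ V.hom) ⟶ V) = j ≫ v from
        Over.OverMorphism.ext (Category.id_comp _).symm,
      show (Over.homMk w.left ((Over.w w).trans (Over.w v).symm) :
          Over.mk (v.left ≫ V.hom) ⟶ V) = j ≫ w from
        Over.OverMorphism.ext (Category.id_comp _).symm,
      Functor.map_comp, Category.assoc, e, Functor.map_comp, Category.assoc]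

theorem sameImg_refl {T : Scheme.{u}} (v : T ⟶ V.left) : SameImg γ v v := ⟨rfl, rfl⟩

variable {γ}

theorem SameImg.symm {T : Scheme.{u}} {v w : T ⟶ V.left} (h : SameImg γ v w) :
    SameImg γ w v := by
  obtain ⟨e, h⟩ := h
  exact (sameImg_iff γ (Over.homMk w e : Over.mk (v ≫ V.hom) ⟶ V) (Over.homMk v rfl)).2 h.symm

theorem SameImg.trans {T : Scheme.{u}} {v w z : T ⟶ V.left} (h : SameImg γ v w)
    (h' : SameImg γ w z) : SameImg γ v z := by
  obtain ⟨e, h⟩ := h
  obtain ⟨e', h'⟩ := h'
  exact ⟨e'.trans e, h.trans ((sameImg_iff γ (Over.homMk w e : Over.mk (v ≫ V.hom) ⟶ V)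
    (Over.homMk z (e'.trans e))).1 ⟨e', h'⟩)⟩

theorem SameImg.comp {T T' : Scheme.{u}} (g : T' ⟶ T) {v w : T ⟶ V.left} (h : SameImg γ v w) :
    SameImg γ (g ≫ v) (g ≫ w) := by
  obtain ⟨e, h⟩ := h
  let g' : Over.mk (g ≫ v ≫ V.hom) ⟶ Over.mk (v ≫ V.hom) := Over.homMk g rfl
  have := (sameImg_iff γ (g' ≫ Over.homMk v rfl) (g' ≫ Over.homMk w e)).2 (by
    rw [Functor.map_comp, Category.assoc, h, Functor.map_comp, Category.assoc])
  exact this

variable {F : Sp S} {f : G ⟶ F} {U' T : Over S} (g' : V ⟶ U') (b : U' ⟶ T)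
  {a : (yon S).obj T ⟶ F} (sq' : IsPullback γ ((yon S).map g') f ((yon S).map b ≫ a))

include sq' in
theorem sameImg_unique {T' : Scheme.{u}} {w w' : T' ⟶ V.left} (h : SameImg γ w w')
    (e : w ≫ g'.left = w' ≫ g'.left) : w = w' := by
  obtain ⟨hw, h⟩ := h
  refine congrArg CommaMorphism.left ((yon S).map_injective (sq'.hom_ext h ?_) :
    (Over.homMk w rfl : Over.mk (w ≫ V.hom) ⟶ V) = Over.homMk w' hw)
  rw [← Functor.map_comp, ← Functor.map_comp]
  exact congrArg (yon S).map (Over.OverMorphism.ext e)

include sq' in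
theorem exists_sameImg {T' : Scheme.{u}} (v : T' ⟶ V.left) (x : T' ⟶ U'.left)
    (h : v ≫ g'.left ≫ b.left = x ≫ b.left) : ∃ w, SameImg γ v w ∧ w ≫ g'.left = x := by
  have hs : x ≫ U'.hom = v ≫ V.hom := by
    rw [← Over.w b, ← reassoc_of% h, Over.w b, Over.w g']
  let v' : Over.mk (v ≫ V.hom) ⟶ V := Over.homMk v rfl
  let x' : Over.mk (v ≫ V.hom) ⟶ U' := Over.homMk x hs
  obtain ⟨w, hw⟩ := (yon S).map_surjective
    (sq'.lift ((yon S).map v' ≫ γ) ((yon S).map x') (by
      rw [Category.assoc, sq'.w, ← Functor.map_comp_assoc, ← Functor.map_comp_assoc,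
        ← Functor.map_comp_assoc]
      congr 2
      exact Over.OverMorphism.ext ((Category.assoc _ _ _).trans h)))
  refine ⟨w.left, (sameImg_iff γ v' w).2 ?_, ?_⟩
  · rw [hw, sq'.lift_fst]
  · have : w ≫ g' = x' := (yon S).map_injective (by rw [Functor.map_comp, hw, sq'.lift_snd])
    exact congrArg CommaMorphism.left this

/-- The descent datum of a sheaf on the chart of its pullback. -/
def chartPre : Pre b.left g'.left where
  act v x h := (exists_sameImg g' b sq' v x h).choose
  hom v x h := (exists_sameImg g' b sq' v x h).choose_spec.2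
  natural g v x h h' := by
    refine sameImg_unique g' b sq'
      ((exists_sameImg g' b sq' (g ≫ v) (g ≫ x) h').choose_spec.1.symm.trans
        ((exists_sameImg g' b sq' v x h).choose_spec.1.comp g)) ?_
    rw [Category.assoc, (exists_sameImg g' b sq' v x h).choose_spec.2]
    exact (exists_sameImg g' b sq' (g ≫ v) (g ≫ x) h').choose_spec.2
  self v h :=
    sameImg_unique g' b sq' (exists_sameImg g' b sq' v (v ≫ g'.left) h).choose_spec.1.symm
      (exists_sameImg g' b sq' v (v ≫ g'.left) h).choose_spec.2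
  comp v x y h h' h'' :=
    sameImg_unique g' b sq'
      ((exists_sameImg g' b sq' _ y h').choose_spec.1.symm.trans
        ((exists_sameImg g' b sq' v x h).choose_spec.1.symm.trans
          (exists_sameImg g' b sq' v y h'').choose_spec.1))
      ((exists_sameImg g' b sq' _ y h').choose_spec.2.trans
        (exists_sameImg g' b sq' v y h'').choose_spec.2.symm)

theorem isLocallySurjective_yonMap {A B : Over S} (π : A ⟶ B) [Surjective π.left] [Etale π.left] :
    Sheaf.IsLocallySurjective ((yon S).map π) :=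
  Groth.L23.isLocallySurjective_of_etale _ (Groth.L23.repWith_map (P := @Etale) inferInstance)
    (Groth.L23.repWith_map (P := @Surjective) inferInstance)

theorem epi_yonMap {A B : Over S} (π : A ⟶ B) [Surjective π.left] [Etale π.left] :
    Epi ((yon S).map π) :=
  have := isLocallySurjective_yonMap π
  inferInstance

include sq' in
theorem exists_isPullback_of_effective [Surjective b.left] [Etale b.left]
    (P : MorphismProperty Scheme.{u}) [P.IsStableUnderBaseChange]
    [P.IsLocalAtTarget Scheme.fppfPrecoverage] (hP : P g'.left)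
    (hE : Effective (chartPre g' b sq')) :
    ∃ (W : Over S) (sW : W ⟶ T) (δ : (yon S).obj W ⟶ G),
      IsPullback δ ((yon S).map sW) f a ∧ P sW.left := by
  obtain ⟨d⟩ := hE
  let W : Over S := Over.mk (d.a ≫ T.hom)
  let sW : W ⟶ T := Over.homMk d.a rfl
  let π : V ⟶ W := Over.homMk d.q (by
    show d.q ≫ d.a ≫ T.hom = V.hom
    rw [← reassoc_of% d.isPullback.w, Over.w b, Over.w g'])
  have hπs : π ≫ sW = g' ≫ b := Over.OverMorphism.ext d.isPullback.w.symm
  have : Surjective π.left := MorphismProperty.of_isPullback d.isPullback ‹Surjective b.left›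
  have : Etale π.left := MorphismProperty.of_isPullback d.isPullback ‹Etale b.left›
  have := epi_yonMap π
  have hq : ∀ {Z : Over S} (k₁ k₂ : Z ⟶ V), (yon S).map k₁ ≫ γ = (yon S).map k₂ ≫ γ →
      k₁ ≫ g' ≫ b = k₂ ≫ g' ≫ b → k₁ ≫ π = k₂ ≫ π := by
    intro Z k₁ k₂ h1 h2
    have c : k₁.left ≫ g'.left ≫ b.left = (k₂.left ≫ g'.left) ≫ b.left :=
      (congrArg CommaMorphism.left h2).trans (Category.assoc _ _ _).symm
    have hw := (exists_sameImg g' b sq' k₁.left (k₂.left ≫ g'.left) c).choose_spec
    have e : (chartPre g' b sq').act k₁.left (k₂.left ≫ g'.left) c = k₂.left :=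
      sameImg_unique g' b sq' (hw.1.symm.trans ((sameImg_iff γ k₁ k₂).2 h1)) hw.2
    exact Over.OverMorphism.ext
      ((d.comm k₁.left _ c).symm.trans (congrArg (· ≫ d.q) e))
  have hγ : ∀ {Z : Over S} (k₁ k₂ : Z ⟶ V), k₁ ≫ π = k₂ ≫ π →
      (yon S).map k₁ ≫ γ = (yon S).map k₂ ≫ γ := by
    intro Z k₁ k₂ h
    have e : k₁.left ≫ d.q = k₂.left ≫ d.q := congrArg CommaMorphism.left h
    have hw := (exists_sameImg g' b sq' k₁.left (k₂.left ≫ g'.left) (d.cond _ _ e)).choose_spec.1
    rw [show (exists_sameImg g' b sq' k₁.left (k₂.left ≫ g'.left) (d.cond _ _ e)).choose = k₂.left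
      from d.act_eq k₁.left k₂.left e (d.cond _ _ e)] at hw
    exact (sameImg_iff γ k₁ k₂).1 hw
  have sqπ := (IsPullback.of_hasPullback π π).map (yon S)
  obtain ⟨hc⟩ := Groth.L23.nonempty_isColimit_cofork ((yon S).map π) sqπ
  let δ : (yon S).obj W ⟶ G :=
    hc.desc (Cofork.ofπ γ (hγ (pullback.fst π π) (pullback.snd π π) pullback.condition))
  have hδ : (yon S).map π ≫ δ = γ := hc.fac _ WalkingParallelPair.one
  have hcond : δ ≫ f = (yon S).map sW ≫ a := by
    rw [← cancel_epi ((yon S).map π), reassoc_of% hδ, sq'.w, ← Functor.map_comp_assoc,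
      ← Functor.map_comp_assoc, hπs]
  let l : (yon S).obj W ⟶ pullback f a := pullback.lift δ ((yon S).map sW) hcond
  have hl₁ : l ≫ pullback.fst f a = δ := pullback.lift_fst _ _ _
  have hl₂ : l ≫ pullback.snd f a = (yon S).map sW := pullback.lift_snd _ _ _
  have : Epi l := by
    let m : (yon S).obj V ⟶ pullback f a :=
      pullback.lift γ ((yon S).map (g' ≫ b)) (by rw [Functor.map_comp, Category.assoc]; exact sq'.w)
    have hm₁ : m ≫ pullback.fst f a = γ := pullback.lift_fst _ _ _
    have hm₂ : m ≫ pullback.snd f a = (yon S).map (g' ≫ b) := pullback.lift_snd _ _ _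
    have hm : (yon S).map π ≫ l = m := by
      apply pullback.hom_ext
      · rw [Category.assoc, hl₁, hm₁, hδ]
      · rw [Category.assoc, hl₂, hm₂, ← Functor.map_comp, hπs]
    have sqm : IsPullback m ((yon S).map g') (pullback.snd f a) ((yon S).map b) := by
      refine IsPullback.of_right ?_ (hm₂.trans ((yon S).map_comp g' b))
        (IsPullback.of_hasPullback f a)
      rw [hm₁]
      exact sq'
    have : Epi m := Groth.L23.epi_of_repWith m
      (Groth.L23.repWith_of_isPullback sqm.flip (Groth.L23.repWith_map (P := @Etale) inferInstance))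
      (Groth.L23.repWith_of_isPullback sqm.flip
        (Groth.L23.repWith_map (P := @Surjective) inferInstance))
    exact epi_of_epi_fac hm
  have : Mono l := by
    refine Groth.L23.mono_of_yon fun Z x y e => ?_
    obtain ⟨x, rfl⟩ := (yon S).map_surjective x
    obtain ⟨y, rfl⟩ := (yon S).map_surjective y
    have eδ : (yon S).map x ≫ δ = (yon S).map y ≫ δ := by
      rw [← hl₁, ← Category.assoc, e, Category.assoc]
    have es : x ≫ sW = y ≫ sW := (yon S).map_injective (by
      rw [Functor.map_comp, Functor.map_comp, ← hl₂, ← Category.assoc, e, Category.assoc])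
    let p₁ := pullback.fst x π
    let p₂ := pullback.fst (p₁ ≫ y) π
    let k₁ := p₂ ≫ pullback.snd x π
    let k₂ := pullback.snd (p₁ ≫ y) π
    have e1 : k₁ ≫ π = p₂ ≫ p₁ ≫ x := by simp [k₁, p₁, pullback.condition]
    have e2 : k₂ ≫ π = p₂ ≫ p₁ ≫ y := by simp [k₂, p₂, pullback.condition]
    have key := hq k₁ k₂ ?_ ?_
    · have h₁ : Surjective p₁.left ∧ Etale p₁.left :=
        have sq := (IsPullback.of_hasPullback x π).flip.map (Over.forget S)
        ⟨MorphismProperty.of_isPullback sq ‹Surjective π.left›,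
          MorphismProperty.of_isPullback sq ‹Etale π.left›⟩
      have h₂ : Surjective p₂.left ∧ Etale p₂.left :=
        have sq := (IsPullback.of_hasPullback (p₁ ≫ y) π).flip.map (Over.forget S)
        ⟨MorphismProperty.of_isPullback sq ‹Surjective π.left›,
          MorphismProperty.of_isPullback sq ‹Etale π.left›⟩
      obtain ⟨_, _⟩ := h₁
      obtain ⟨_, _⟩ := h₂
      have := epi_yonMap p₁
      have := epi_yonMap p₂
      rw [← cancel_epi ((yon S).map p₁), ← cancel_epi ((yon S).map p₂)]
      simp only [← Functor.map_comp]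
      exact congrArg (yon S).map (e1.symm.trans (key.trans e2))
    · rw [← hδ, ← Functor.map_comp_assoc, ← Functor.map_comp_assoc, e1, e2]
      simp only [Functor.map_comp, Category.assoc, eδ]
    · rw [← hπs, reassoc_of% e1, reassoc_of% e2, es]
  have : IsIso l := isIso_of_mono_of_epi l
  refine ⟨W, sW, δ, IsPullback.of_iso_pullback ⟨hcond⟩ (asIso l) hl₁ hl₂, ?_⟩
  refine MorphismProperty.IsLocalAtTarget.of_forall_pullbackSnd (P := P)
    b.left.singleton_mem_fppfPrecoverage ?_
  intro Y v _ hv
  cases hv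
  refine (P.cancel_left_of_respectsIso d.isPullback.flip.isoPullback.hom _).1 ?_
  exact (congrArg (fun m => P m) d.isPullback.flip.isoPullback_hom_snd).mpr hP

/-- Representability with a property satisfying fppf descent is local on an etale chart. -/
theorem repWith_of_chart_descent (P : MorphismProperty Scheme.{u})
    [P.IsStableUnderBaseChange] [P.IsLocalAtTarget Scheme.fppfPrecoverage]
    (hdesc : ∀ ⦃X' S' : Scheme.{u}⦄ (p : X' ⟶ S'), Surjective p → Flat p →
      LocallyOfFinitePresentation p →
      ∀ D : Desc.SchDD p, P D.obj.hom → (Desc.toDD p).essImage D)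
    {F G : Sp S} (f : G ⟶ F) {U V : Over S} (q : (yon S).obj U ⟶ F)
    (hqe : RepWith @Etale q) (hqs : RepWith @Surjective q) (fst : (yon S).obj V ⟶ G)
    (g : V ⟶ U) (sq : IsPullback fst ((yon S).map g) f q) (hP : P g.left) :
    RepWith P f := by
  have key : ∀ ⦃T : Over S⦄ (a : (yon S).obj T ⟶ F),
      ∃ (W : Over S) (sW : W ⟶ T) (δ : (yon S).obj W ⟶ G),
        IsPullback δ ((yon S).map sW) f a ∧ P sW.left := by
    intro T a
    let b := hqe.1.snd a
    obtain ⟨u', hu'⟩ := (yon S).map_surjective (hqe.1.fst a)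
    have hb : (yon S).map u' ≫ q = (yon S).map b ≫ a := by rw [hu']; exact hqe.1.w a
    have : Etale b.left := Groth.L23.repWith_prop hqe (hqe.1.isPullback a)
    have : Surjective b.left := Groth.L23.repWith_prop hqs (hqe.1.isPullback a)
    let g' := pullback.snd g u'
    have sq' : IsPullback ((yon S).map (pullback.fst g u') ≫ fst) ((yon S).map g') f
        ((yon S).map b ≫ a) := by
      rw [← hb]
      exact ((IsPullback.of_hasPullback g u').map (yon S)).paste_horiz sq
    have hg' : P g'.left :=
      MorphismProperty.of_isPullback ((IsPullback.of_hasPullback g u').map (Over.forget S)) hP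
    refine exists_isPullback_of_effective g' b sq' P hg' (effective_of_toSchDD _ ?_)
    obtain ⟨W, ⟨e⟩⟩ := hdesc b.left inferInstance inferInstance inferInstance (toSchDD _) hg'
    exact effective_of_iso _ e
  have hr : Representable f := fun T a => by
    obtain ⟨W, sW, δ, h, -⟩ := key a
    exact ⟨W, sW, δ, h⟩
  refine Groth.L23.repWith_of_exists fun T a => ?_
  obtain ⟨W, sW, δ, h, hW⟩ := key a
  exact ⟨W, δ, sW, h, hW⟩

end Groth.L20.SchDesc
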