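import Groth.Agent.L20.SchDesc.AffineReduce
import Groth.Agent.L20.SchDesc.Fppf
import Groth.Agent.L18.AmpleAvoid
import Groth.Agent.L18.RelAmpleLocal
import Mathlib.AlgebraicGeometry.Morphisms.Finite
import Mathlib.AlgebraicGeometry.Morphisms.QuasiFinite
import Mathlib.AlgebraicGeometry.AlgClosed.Basic
import Mathlib.FieldTheory.IsAlgClosed.AlgebraicClosure

/-!
# Effective descent along finite locally free morphisms

A descent datum relative to a finite flat surjection is effective when every orbit lies in an
affine open of the total space.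
-/

set_option autoImplicit false
set_option linter.style.haveILetI false
set_option backward.isDefEq.respectTransparency.types false

universe u

open CategoryTheory Limits AlgebraicGeometry TopologicalSpace

namespace Groth.L20.SchDesc

variable {X S V : Scheme.{u}} {p : X ⟶ S} {f : V ⟶ X}

theorem orbit_hom_p {P : Pre p f} {v w : V} (h : Orbit P v w) : p (f w) = p (f v) := by
  obtain ⟨r, rfl, rfl⟩ := h
  rw [← Scheme.Hom.comp_apply, ← Scheme.Hom.comp_apply, ← Scheme.Hom.comp_apply,
    ← Scheme.Hom.comp_apply, flip_cond, Category.assoc]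

theorem finite_orbit [IsFinite p] (P : Pre p f) (v : V) : {w | Orbit P v w}.Finite := by
  have : IsFinite (src p f) := MorphismProperty.pullback_fst _ _ inferInstance
  refine (((src p f).finite_preimage_singleton v).image P.map).subset ?_
  rintro _ ⟨r, hr, rfl⟩
  exact ⟨r, hr, rfl⟩

/-- Orbits contained in affine opens give effectivity. -/
theorem effective_of_orbit_subset_affine [IsFinite p] [Flat p] [Cov p] (P : Pre p f)
    (h : ∀ v, ∃ U : V.Opens, IsAffineOpen U ∧ ∀ w, Orbit P v w → w ∈ U) : Effective P := by
  refine effective_of_cover P fun v => ?_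
  obtain ⟨U, hU, hv⟩ := h v
  have : IsFinite (src p f) := MorphismProperty.pullback_fst _ _ inferInstance
  have hvC : v ∈ coreOpen P U := by
    intro hc
    rw [((src p f).isClosedMap _ (U.isOpen.isClosed_compl.preimage P.map.continuous)).closure_eq] at hc
    obtain ⟨r, hr, hrv⟩ := hc
    exact hr (hv _ ⟨r, hrv, rfl⟩)
  refine ⟨coreOpen P U, hvC, stable_core P U, effective_of_isIndQuasiAffineHom ?_ _⟩
  refine (Groth.L20.isIndQuasiAffineHom_iff _).2 fun W _ N _ hN => ?_
  have hle : (coreOpen P U).ι ''ᵁ N ≤ U := by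
    rintro _ ⟨x, -, rfl⟩
    exact core_le P U x.2
  have : IsAffine U := hU
  have : CompactSpace N := isCompact_iff_compactSpace.1 hN
  exact Scheme.IsQuasiAffine.of_isImmersion
    (((coreOpen P U).ι.isoImage N).hom ≫ V.homOfLE hle)

/-- Points of a finite scheme over a geometric point of the base lift to geometric points. -/
theorem exists_finite_lift {A B : Scheme.{u}} (g : A ⟶ B) [IsFinite g] {k : Type u} [Field k]
    [IsAlgClosed k] (b : Spec (CommRingCat.of k) ⟶ B) (r : A) (t : Spec (CommRingCat.of k))
    (h : g r = b t) : ∃ z : Spec (CommRingCat.of k) ⟶ A, z ≫ g = b ∧ ∀ t, z t = r := by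
  obtain ⟨q, hq, -⟩ := Scheme.Pullback.exists_preimage_pullback (f := g) (g := b) r t h
  have : DiscreteTopology (pullback g b : Scheme) := by
    have h := (pullback.snd g b).isDiscrete_preimage_singleton t
    rw [show pullback.snd g b ⁻¹' {t} = Set.univ from
      Set.eq_univ_of_forall fun x => Subsingleton.elim _ _] at h
    exact isDiscrete_univ_iff.1 h
  refine ⟨pointOfClosedPoint (pullback.snd g b) q (isClosed_discrete _) ≫ pullback.fst g b, ?_,
    fun t => ?_⟩
  · rw [Category.assoc, pullback.condition, ← Category.assoc, pointOfClosedPoint_comp,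
      Category.id_comp]
  · rw [Scheme.Hom.comp_apply, pointOfClosedPoint_apply, hq]

/-- The number of points of an orbit is bounded by the number of geometric points of a fibre. -/
theorem exists_fin_orbit [IsFinite p] {d : ℕ} (hd : 0 < d)
    (hfib : ∀ (k : Type u) [Field k] [IsAlgClosed k] (y : Spec (CommRingCat.of k) ⟶ S),
      Set.encard {x : Spec (CommRingCat.of k) ⟶ X | x ≫ p = y} ≤ d) (P : Pre p f) (v : V) :
    ∃ g : Fin d → V, (∀ i, Orbit P v (g i)) ∧ ∀ w, Orbit P v w → ∃ i, g i = w := by
  classical
  have : IsFinite (src p f) := MorphismProperty.pullback_fst _ _ inferInstance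
  let k : Type u := AlgebraicClosure (V.residueField v)
  let b : Spec (CommRingCat.of k) ⟶ V :=
    Spec.map (CommRingCat.ofHom (algebraMap (V.residueField v) k)) ≫ V.fromSpecResidueField v
  let A := {x : Spec (CommRingCat.of k) ⟶ X | x ≫ p = b ≫ f ≫ p}
  have hA : A.Finite := Set.finite_of_encard_le_coe (hfib k _)
  have hb : b default = v := by
    simp only [b, Scheme.Hom.comp_apply]
    exact Scheme.fromSpecResidueField_apply _ _
  have hex : ∀ w, Orbit P v w → ∃ (x : Spec (CommRingCat.of k) ⟶ X) (hx : b ≫ f ≫ p = x ≫ p),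
      ∀ t, P.map (pullback.lift (f := f ≫ p) (g := p) b x hx t) = w := by
    rintro _ ⟨r, hr, rfl⟩
    obtain ⟨z, hz, hz'⟩ := exists_finite_lift (src p f) b r default (hr.trans hb.symm)
    have hc : b ≫ f ≫ p = (z ≫ pt p f) ≫ p := by
      rw [← hz, Category.assoc, pairs_cond, Category.assoc]
    refine ⟨z ≫ pt p f, hc, fun t => ?_⟩
    have : pullback.lift (f := f ≫ p) (g := p) b (z ≫ pt p f) hc = z :=
      pullback.hom_ext ((pullback.lift_fst _ _ _).trans hz.symm) (pullback.lift_snd _ _ _)
    rw [this, hz' t]
  obtain ⟨x₀, hx₀, h₀⟩ := hex v (orbit_refl P v)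
  let t₀ : Spec (CommRingCat.of k) := default
  let orb : A → V := fun x => P.map (pullback.lift (f := f ≫ p) (g := p) b x.1 x.2.symm t₀)
  have horb : ∀ x, Orbit P v (orb x) := fun x =>
    ⟨_, by rw [← Scheme.Hom.comp_apply, pullback.lift_fst, hb], rfl⟩
  let m : A → Fin d := fun x => by
    have : Fintype A := hA.fintype
    have hle : Fintype.card A ≤ d := by
      have := hfib k (b ≫ f ≫ p)
      rw [show {x : Spec (CommRingCat.of k) ⟶ X | x ≫ p = b ≫ f ≫ p} = A from rfl,
        Set.encard_eq_coe_toFinset_card, Set.toFinset_card] at this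
      exact_mod_cast this
    exact Fin.castLE hle (Fintype.equivFin A x)
  have hm : Function.Injective m := fun x y e => by
    simpa [m] using e
  have hne : Nonempty A := ⟨⟨x₀, hx₀.symm⟩⟩
  refine ⟨fun i => orb (Function.invFun m i), fun i => horb _, fun w hw => ?_⟩
  obtain ⟨x, hx, h⟩ := hex w hw
  exact ⟨m ⟨x, hx.symm⟩, (congrArg orb (Function.leftInverse_invFun hm _)).trans (h t₀)⟩

end Groth.L20.SchDesc
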