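import Groth.Agent.L20.SchDesc.Basic
import Groth.Agent.L20.SchDesc.Cov
import Mathlib.AlgebraicGeometry.Morphisms.Flat
import Mathlib.AlgebraicGeometry.PullbackCarrier
import Mathlib.AlgebraicGeometry.Gluing
import Mathlib.AlgebraicGeometry.Sites.Fpqc
import Mathlib.CategoryTheory.Limits.Shapes.Pullback.IsPullback.Basic

/-!
# Gluing effective descent data

For an fpqc morphism a descent datum is effective as soon as the total space is covered by stable
opens on which it is effective.
-/

set_option autoImplicit false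
set_option linter.style.haveILetI false
set_option backward.isDefEq.respectTransparency.types false

universe u

open CategoryTheory Limits AlgebraicGeometry

namespace Groth.L20.SchDesc

variable {X S V : Scheme.{u}} {p : X ⟶ S} {f : V ⟶ X}

namespace Descent

variable {P : Pre p f} (d : Descent P)

instance cov [Cov p] : Cov d.q := Cov.of_isPullback d.isPullback

instance surjective [Cov p] : Surjective d.q := Cov.surjective

instance epi [Cov p] : Epi d.q := Cov.epi d.q

/-- A morphism unchanged by the action factors through the descended scheme. -/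
theorem exists_factor [Cov p] {Z : Scheme.{u}} (φ : V ⟶ Z)
    (h : ∀ {T : Scheme.{u}} (v : T ⟶ V) (x : T ⟶ X) (e : v ≫ f ≫ p = x ≫ p),
      P.act v x e ≫ φ = v ≫ φ) : ∃ m : d.U ⟶ Z, d.q ≫ m = φ := by
  refine Cov.exists_desc φ fun g₁ g₂ e => ?_
  exact ((congrArg (· ≫ φ) (d.act_eq g₁ g₂ e (d.cond g₁ g₂ e))).symm.trans (h _ _ _)).symm

/-- Two realisations of the same datum are isomorphic. -/
theorem exists_iso [Cov p] (d' : Descent P) :
    ∃ e : d.U ≅ d'.U, d.q ≫ e.hom = d'.q := by
  obtain ⟨m, hm⟩ := d.exists_factor d'.q d'.comm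
  obtain ⟨n, hn⟩ := d'.exists_factor d.q d.comm
  refine ⟨⟨m, n, ?_, ?_⟩, hm⟩
  · rw [← cancel_epi d.q, reassoc_of% hm, hn, Category.comp_id]
  · rw [← cancel_epi d'.q, reassoc_of% hn, hm, Category.comp_id]

end Descent

variable {P : Pre p f}

theorem Stable.inf {O O' : V.Opens} (h : Stable P O) (h' : Stable P O') : Stable P (O ⊓ O') :=
  fun T v x e hv => Set.subset_inter (h T v x e (hv.trans Set.inter_subset_left))
    (h' T v x e (hv.trans Set.inter_subset_right))

theorem restrict_act_homOfLE {O O' : V.Opens} (hle : O' ≤ O) (hO : Stable P O) (hO' : Stable P O')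
    {T : Scheme.{u}} (v : T ⟶ O') (x : T ⟶ X) (h : v ≫ (O'.ι ≫ f) ≫ p = x ≫ p)
    (h' : (v ≫ V.homOfLE hle) ≫ (O.ι ≫ f) ≫ p = x ≫ p) :
    (restrict P hO').act v x h ≫ V.homOfLE hle = (restrict P hO).act (v ≫ V.homOfLE hle) x h' := by
  rw [← cancel_mono O.ι, Category.assoc, V.homOfLE_ι, restrict_act_ι, restrict_act_ι]
  exact P.act_congr (by rw [Category.assoc, V.homOfLE_ι]) rfl _ _

/-- A morphism into the descended scheme of a larger stable open is unchanged by the action. -/
theorem restrict_comm {O O' : V.Opens} (hle : O' ≤ O) (hO : Stable P O) (hO' : Stable P O')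
    (d : Descent (restrict P hO)) {T : Scheme.{u}} (v : T ⟶ O') (x : T ⟶ X)
    (h : v ≫ (O'.ι ≫ f) ≫ p = x ≫ p) :
    (restrict P hO').act v x h ≫ V.homOfLE hle ≫ d.q = v ≫ V.homOfLE hle ≫ d.q := by
  have h' : (v ≫ V.homOfLE hle) ≫ (O.ι ≫ f) ≫ p = x ≫ p := by
    refine Eq.trans ?_ h
    simp
  rw [← Category.assoc, restrict_act_homOfLE hle hO hO' v x h h', d.comm, Category.assoc]

section

variable [Cov p]

omit [Cov p] in
/-- A stable open is saturated for the projection to a descended scheme. -/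
theorem mem_of_q_eq {O O' : V.Opens} (hO : Stable P O) (hO' : Stable P O')
    (d : Descent (restrict P hO)) {v w : O} (hv : v.1 ∈ O') (he : d.q v = d.q w) : w.1 ∈ O' := by
  obtain ⟨z, h1, h2⟩ := Scheme.Pullback.exists_preimage_pullback (f := d.q) (g := d.q) v w he
  let T : (pullback d.q d.q).Opens := (pullback.fst d.q d.q ≫ O.ι) ⁻¹ᵁ O'
  have hz : z ∈ T := by
    show O.ι (pullback.fst d.q d.q z) ∈ O'
    rw [h1]
    exact hv
  have e : (T.ι ≫ pullback.fst d.q d.q) ≫ d.q = (T.ι ≫ pullback.snd d.q d.q) ≫ d.q := by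
    rw [Category.assoc, Category.assoc, pullback.condition]
  have key := d.act_eq _ _ e (d.cond _ _ e)
  have key' := (restrict_act_ι P hO _ _ (d.cond _ _ e)).symm.trans (congrArg (· ≫ O.ι) key)
  have hr := hO' _ ((T.ι ≫ pullback.fst d.q d.q) ≫ O.ι) _ (cond_assoc O.ι _ (d.cond _ _ e))
    (by rintro _ ⟨t, rfl⟩; exact t.2)
  rw [key'] at hr
  have hm := hr ⟨⟨z, hz⟩, rfl⟩
  change O.ι (pullback.snd d.q d.q z) ∈ O' at hm
  rwa [h2] at hm

/-- The image of a smaller stable open in a descended scheme. -/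
def imageOpen {O O' : V.Opens} (hO : Stable P O) (hO' : Stable P O')
    (d : Descent (restrict P hO)) : d.U.Opens :=
  ⟨d.q '' ((O.ι ⁻¹ᵁ O' : O.toScheme.Opens) : Set O), by
    rw [← (Cov.isQuotientMap d.q).isOpen_preimage]
    convert (O.ι ⁻¹ᵁ O').2 using 1
    exact Set.Subset.antisymm (fun w ⟨v, hv, he⟩ => mem_of_q_eq hO hO' d hv he)
      (Set.subset_preimage_image _ _)⟩

theorem preimage_imageOpen {O O' : V.Opens} (hO : Stable P O) (hO' : Stable P O')
    (d : Descent (restrict P hO)) : d.q ⁻¹ᵁ imageOpen hO hO' d = O.ι ⁻¹ᵁ O' :=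
  TopologicalSpace.Opens.ext (Set.Subset.antisymm (fun _ ⟨_, hv, he⟩ => mem_of_q_eq hO hO' d hv he)
    (Set.subset_preimage_image _ _))

theorem range_subset_imageOpen {O O' : V.Opens} (hle : O' ≤ O) (hO : Stable P O)
    (hO' : Stable P O') (d : Descent (restrict P hO)) :
    Set.range (V.homOfLE hle ≫ d.q) ⊆ Set.range (imageOpen hO hO' d).ι := by
  rw [Scheme.Opens.range_ι]
  rintro _ ⟨t, rfl⟩
  exact ⟨V.homOfLE hle t, by simp, rfl⟩

/-- The descended scheme of a smaller stable open. -/
noncomputable def Descent.sub {O O' : V.Opens} (hle : O' ≤ O) (hO : Stable P O)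
    (hO' : Stable P O') (d : Descent (restrict P hO)) : Descent (restrict P hO') where
  U := imageOpen hO hO' d
  a := (imageOpen hO hO' d).ι ≫ d.a
  q := IsOpenImmersion.lift (imageOpen hO hO' d).ι (V.homOfLE hle ≫ d.q)
    (range_subset_imageOpen hle hO hO' d)
  isPullback := by
    have h := IsOpenImmersion.isPullback (IsOpenImmersion.lift (imageOpen hO hO' d).ι
      (V.homOfLE hle ≫ d.q) (range_subset_imageOpen hle hO hO' d)) (V.homOfLE hle)
      (imageOpen hO hO' d).ι d.q (IsOpenImmersion.lift_fac _ _ _).symm (by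
        rw [Scheme.Opens.opensRange_ι, preimage_imageOpen, Scheme.opensRange_homOfLE])
    have h' := h.flip.paste_horiz d.isPullback
    rw [← Category.assoc, V.homOfLE_ι] at h'
    exact h'
  comm v x h := (cancel_mono (imageOpen hO hO' d).ι).1 <| by
    rw [Category.assoc, Category.assoc, IsOpenImmersion.lift_fac]
    exact restrict_comm hle hO hO' d v x h

/-- The stable opens on which the datum is effective. -/
abbrev Piece (P : Pre p f) : Type u :=
  {O : V.Opens // ∃ hO : Stable P O, Effective (restrict P hO)}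

namespace Piece

variable (P)

/-- The chosen descended scheme of a piece. -/
noncomputable def desc (i : Piece P) : Descent (restrict P i.2.1) := i.2.2.some

variable {P}

theorem exists_map {i j : Piece P} (h : i ≤ j) :
    ∃ m : (desc P i).U ⟶ (desc P j).U, (desc P i).q ≫ m = V.homOfLE h ≫ (desc P j).q :=
  (desc P i).exists_factor _ (restrict_comm h _ _ (desc P j))

/-- The transition map of two pieces. -/
noncomputable def map {i j : Piece P} (h : i ≤ j) : (desc P i).U ⟶ (desc P j).U :=
  (exists_map h).choose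

theorem q_map {i j : Piece P} (h : i ≤ j) :
    (desc P i).q ≫ map h = V.homOfLE h ≫ (desc P j).q :=
  (exists_map h).choose_spec

theorem map_eq {i j : Piece P} (h : i ≤ j) {m : (desc P i).U ⟶ (desc P j).U}
    (hm : (desc P i).q ≫ m = V.homOfLE h ≫ (desc P j).q) : map h = m :=
  (cancel_epi (desc P i).q).1 ((q_map h).trans hm.symm)

theorem map_a {i j : Piece P} (h : i ≤ j) : map h ≫ (desc P j).a = (desc P i).a := by
  rw [← cancel_epi (desc P i).q, reassoc_of% (q_map h), ← (desc P j).isPullback.w,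
    ← (desc P i).isPullback.w, ← Category.assoc, ← Category.assoc (V.homOfLE h), V.homOfLE_ι]

theorem isOpenImmersion_map {i j : Piece P} (h : i ≤ j) : IsOpenImmersion (map h) := by
  let W := imageOpen j.2.1 i.2.1 (desc P j)
  obtain ⟨e, he⟩ := (desc P i).exists_iso ((desc P j).sub h j.2.1 i.2.1)
  let e' : (desc P i).U ≅ W.toScheme := e
  have : map h = e'.hom ≫ W.ι := map_eq h (by
    refine (Category.assoc _ _ _).symm.trans ((congrArg (· ≫ W.ι) he).trans ?_)
    exact IsOpenImmersion.lift_fac W.ι _ (range_subset_imageOpen h j.2.1 i.2.1 (desc P j)))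
  rw [this]
  exact inferInstanceAs (IsOpenImmersion (e'.hom ≫ W.ι))

variable (P)

/-- The diagram of descended schemes. -/
noncomputable def diagram : Piece P ⥤ Scheme.{u} where
  obj i := (desc P i).U
  map h := map (leOfHom h)
  map_id i := map_eq _ (by simp)
  map_comp {i j k} g g' := map_eq _ (by
    rw [reassoc_of% (q_map (leOfHom g)), q_map, V.homOfLE_homOfLE_assoc])

instance {i j : Piece P} (h : i ⟶ j) : IsOpenImmersion ((diagram P).map h) :=
  isOpenImmersion_map (leOfHom h)

variable {P}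

/-- The meet of two pieces is a piece. -/
def inf (i j : Piece P) : Piece P :=
  ⟨i.1 ⊓ j.1, i.2.1.inf j.2.1, ⟨(desc P i).sub inf_le_left i.2.1 (i.2.1.inf j.2.1)⟩⟩

theorem inf_le_fst (i j : Piece P) : inf i j ≤ i := (inf_le_left : i.1 ⊓ j.1 ≤ i.1)

theorem inf_le_snd (i j : Piece P) : inf i j ≤ j := (inf_le_right : i.1 ⊓ j.1 ≤ j.1)

theorem q_map_apply {i j : Piece P} (h : i ≤ j) (v : i.1) :
    map h ((desc P i).q v) = (desc P j).q ⟨v.1, h v.2⟩ := by
  rw [← Scheme.Hom.comp_apply, q_map, Scheme.Hom.comp_apply]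
  exact congrArg _ (Subtype.ext (by simp))

instance : ((diagram P) ⋙ Scheme.forget).IsLocallyDirected where
  cond {i j k} fi fj xi xj h := by
    obtain ⟨v, rfl⟩ := (desc P i).q.surjective xi
    obtain ⟨w, rfl⟩ := (desc P j).q.surjective xj
    change map (leOfHom fi) ((desc P i).q v) = map (leOfHom fj) ((desc P j).q w) at h
    have hk := (q_map_apply (leOfHom fi) v).symm.trans (h.trans (q_map_apply (leOfHom fj) w))
    have hwi : w.1 ∈ i.1 := mem_of_q_eq k.2.1 i.2.1 (desc P k) (v := ⟨v.1, leOfHom fi v.2⟩)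
      (w := ⟨w.1, leOfHom fj w.2⟩) v.2 hk
    have hl : inf i j ≤ i := inf_le_fst i j
    have hl' : inf i j ≤ j := inf_le_snd i j
    refine ⟨inf i j, homOfLE hl, homOfLE hl', (desc P (inf i j)).q ⟨w.1, hwi, w.2⟩, ?_, ?_⟩
    · refine (q_map_apply hl _).trans ?_
      apply (isOpenImmersion_map (leOfHom fi)).base_open.injective
      refine ((q_map_apply (leOfHom fi) _).trans ?_).trans h.symm
      exact (q_map_apply (leOfHom fj) w).symm
    · exact (q_map_apply hl' _).trans rfl

end Piece

open Piece in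
/-- A descent datum is effective if the total space is covered by stable effective opens. -/
theorem effective_of_cover (P : Pre p f)
    (h : ∀ v : V, ∃ O : V.Opens, v ∈ O ∧ ∃ hO : Stable P O, Effective (restrict P hO)) :
    Effective P := by
  have hcov : TopologicalSpace.IsOpenCover fun i : Piece P => i.1 :=
    TopologicalSpace.IsOpenCover.mk (eq_top_iff.2 fun v _ => by
      obtain ⟨O, hv, hO⟩ := h v
      exact TopologicalSpace.Opens.mem_iSup.2 ⟨⟨O, hO⟩, hv⟩)
  let 𝒰 := V.openCoverOfIsOpenCover _ hcov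
  let ι (i : Piece P) : (desc P i).U ⟶ colimit (diagram P) := colimit.ι (diagram P) i
  have hι : ∀ {i j : Piece P} (h : i ≤ j), map h ≫ ι j = ι i := fun {i j} h =>
    colimit.w (diagram P) (homOfLE h)
  have hq : ∀ (i j : Piece P),
      pullback.fst i.1.ι j.1.ι ≫ (desc P i).q ≫ ι i =
        pullback.snd i.1.ι j.1.ι ≫ (desc P j).q ≫ ι j := by
    intro i j
    let l : pullback i.1.ι j.1.ι ⟶ (inf i j).1 :=
      IsOpenImmersion.lift (inf i j).1.ι (pullback.fst i.1.ι j.1.ι ≫ i.1.ι) (by
        rw [Scheme.Opens.range_ι]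
        rintro _ ⟨t, rfl⟩
        refine ⟨(pullback.fst i.1.ι j.1.ι t).2, ?_⟩
        rw [pullback.condition]
        exact (pullback.snd i.1.ι j.1.ι t).2)
    have h1 : l ≫ V.homOfLE (inf_le_left : (inf i j).1 ≤ i.1) = pullback.fst _ _ := by
      rw [← cancel_mono i.1.ι, Category.assoc, V.homOfLE_ι, IsOpenImmersion.lift_fac]
    have h2 : l ≫ V.homOfLE (inf_le_right : (inf i j).1 ≤ j.1) = pullback.snd _ _ := by
      rw [← cancel_mono j.1.ι, Category.assoc, V.homOfLE_ι, IsOpenImmersion.lift_fac,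
        pullback.condition]
    rw [← h1, ← h2, Category.assoc, Category.assoc, ← reassoc_of% (q_map (inf_le_fst i j)),
      ← reassoc_of% (q_map (inf_le_snd i j)), hι, hι]
  have hιopen : ∀ i : Piece P, IsOpenImmersion (ι i) := fun i =>
    inferInstanceAs (IsOpenImmersion (colimit.ι (diagram P) i))
  let q : V ⟶ colimit (diagram P) := 𝒰.glueMorphisms (fun i => (desc P i).q ≫ ι i) hq
  have hqι : ∀ i : Piece P, i.1.ι ≫ q = (desc P i).q ≫ ι i := fun i =>
    𝒰.ι_glueMorphisms _ hq i
  let a : colimit (diagram P) ⟶ S := colimit.desc (diagram P)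
    { pt := S
      ι := { app := fun i => (desc P i).a
             naturality := fun i j g => (map_a (leOfHom g)).trans (Category.comp_id _).symm } }
  have hιa : ∀ i : Piece P, ι i ≫ a = (desc P i).a := fun i => colimit.ι_desc _ _
  have hsq : f ≫ p = q ≫ a := by
    refine 𝒰.hom_ext _ _ fun (i : Piece P) => ?_
    show i.1.ι ≫ f ≫ p = i.1.ι ≫ q ≫ a
    rw [reassoc_of% (hqι i), hιa, ← (desc P i).isPullback.w, Category.assoc]
  have hpre : ∀ i : Piece P, q ⁻¹ᵁ (ι i).opensRange = i.1 := by
    intro i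
    refine TopologicalSpace.Opens.ext (Set.Subset.antisymm ?_ ?_)
    · rintro v ⟨x, hx⟩
      obtain ⟨j, hvj⟩ := hcov.exists_mem v
      have hjv : q v = ι j ((desc P j).q ⟨v, hvj⟩) :=
        congrArg (fun m => m (⟨v, hvj⟩ : j.1)) (hqι j)
      obtain ⟨k, fi, fj, y, hyi, hyj⟩ :=
        Scheme.IsLocallyDirected.ι_eq_ι_iff (F := diagram P) (xi := x)
          (xj := (desc P j).q ⟨v, hvj⟩) |>.1 (hx.trans hjv)
      obtain ⟨w, rfl⟩ := (desc P k).q.surjective y
      exact leOfHom fi (mem_of_q_eq j.2.1 k.2.1 (desc P j) (v := ⟨w.1, leOfHom fj w.2⟩)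
        (w := ⟨v, hvj⟩) w.2 ((q_map_apply (leOfHom fj) w).symm.trans hyj))
    · intro v hv
      exact ⟨(desc P i).q ⟨v, hv⟩, (congrArg (fun m => m (⟨v, hv⟩ : i.1)) (hqι i)).symm⟩
  have hpb : IsPullback f q p a := by
    let κ : V ⟶ pullback p a := pullback.lift f q hsq
    have hκ : IsIso κ := by
      refine (MorphismProperty.isomorphisms.iff κ).1
        ((IsZariskiLocalAtTarget.iff_of_openCover (P := MorphismProperty.isomorphisms Scheme.{u})
          ((Scheme.IsLocallyDirected.openCover (diagram P)).pullback₁ (pullback.snd p a))).2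
          fun (i : Piece P) => ?_)
      have hV : IsPullback i.1.ι (desc P i).q q (ι i) := by
        refine (IsOpenImmersion.isPullback (desc P i).q i.1.ι (ι i) q (hqι i) ?_).flip
        rw [hpre, Scheme.Opens.opensRange_ι]
      have hW := (IsPullback.of_hasPullback (pullback.snd p a) (ι i)).paste_horiz
        (IsPullback.of_hasPullback p a).flip.flip.flip.flip
      have h1 := IsPullback.of_hasPullback κ (pullback.fst (pullback.snd p a) (ι i))
      have h2 := h1.paste_vert (IsPullback.of_hasPullback (pullback.snd p a) (ι i)).flip.flip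
      have hκq : κ ≫ pullback.snd p a = q := pullback.lift_snd _ _ _
      rw [hκq] at h2
      let e := h2.isoIsPullback _ _ hV
      refine (MorphismProperty.isomorphisms.iff _).2 ?_
      show IsIso (pullback.snd κ (pullback.fst (pullback.snd p a) (ι i)))
      let P' := pullback (pullback.snd p a) (ι i)
      have h3 : IsPullback (pullback.fst (pullback.snd p a) (ι i) ≫ pullback.fst p a)
          (pullback.snd (pullback.snd p a) (ι i)) p (desc P i).a := by
        have h4 := (IsPullback.of_hasPullback (pullback.snd p a) (ι i)).flip.paste_vert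
          (IsPullback.of_hasPullback p a).flip
        rw [hιa] at h4
        exact h4.flip
      have : pullback.snd κ (pullback.fst (pullback.snd p a) (ι i)) =
          e.hom ≫ ((desc P i).isPullback.isoIsPullback _ _ h3).hom := by
        have hfst : (e.hom ≫ ((desc P i).isPullback.isoIsPullback _ _ h3).hom) ≫
            pullback.fst (pullback.snd p a) (ι i) ≫ pullback.fst p a =
            pullback.fst κ _ ≫ f := by
          rw [Category.assoc, IsPullback.isoIsPullback_hom_fst, ← Category.assoc,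
            IsPullback.isoIsPullback_hom_fst]
        apply h3.hom_ext
        · rw [hfst, ← Category.assoc, ← pullback.condition, Category.assoc, pullback.lift_fst]
        · rw [Category.assoc, IsPullback.isoIsPullback_hom_snd, IsPullback.isoIsPullback_hom_snd]
      rw [this]
      infer_instance
    exact IsPullback.of_iso (IsPullback.of_hasPullback p a) (asIso κ).symm (Iso.refl _) (Iso.refl _)
      (Iso.refl _) ((Category.comp_id _).trans ((IsIso.eq_inv_comp κ).2 (pullback.lift_fst _ _ _)))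
      ((Category.comp_id _).trans ((IsIso.eq_inv_comp κ).2 (pullback.lift_snd _ _ _))) (by simp) (by simp)
  refine ⟨⟨colimit (diagram P), a, q, hpb, fun {T} v x hv => ?_⟩⟩
  refine Scheme.Cover.hom_ext (T.openCoverOfIsOpenCover _ (hcov.comap ⟨v, v.continuous⟩)) _ _
    fun (i : Piece P) => ?_
  show (v ⁻¹ᵁ i.1).ι ≫ P.act v x hv ≫ q = (v ⁻¹ᵁ i.1).ι ≫ v ≫ q
  have hv' : ((v ⁻¹ᵁ i.1).ι ≫ v) = (v ∣_ i.1) ≫ i.1.ι := (morphismRestrict_ι v i.1).symm
  have hc : (v ∣_ i.1) ≫ (i.1.ι ≫ f) ≫ p = ((v ⁻¹ᵁ i.1).ι ≫ x) ≫ p := by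
    rw [Category.assoc i.1.ι, ← Category.assoc (v ∣_ i.1), ← hv', Category.assoc, hv,
      Category.assoc]
  rw [← Category.assoc, P.natural' (v ⁻¹ᵁ i.1).ι v x hv (cond_assoc i.1.ι _ hc) hv' rfl,
    ← restrict_act_ι P i.2.1 _ _ hc, Category.assoc, hqι, ← Category.assoc,
    (desc P i).comm, Category.assoc, ← hqι, ← Category.assoc, ← hv', Category.assoc]

end

/-- A stable open carrying an effective datum through an open immersion is effective. -/
theorem effective_restrict_of_hom {V' : Scheme.{u}} {f' : V' ⟶ X} (P' : Pre p f') (P : Pre p f)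
    (m : V' ⟶ V) [IsOpenImmersion m] (hm : m ≫ f = f')
    (hact : ∀ {T : Scheme.{u}} (v : T ⟶ V') (x : T ⟶ X) (h : v ≫ f' ≫ p = x ≫ p)
      (h' : (v ≫ m) ≫ f ≫ p = x ≫ p), P'.act v x h ≫ m = P.act (v ≫ m) x h')
    (h : Effective P') : ∃ hO : Stable P m.opensRange, Effective (restrict P hO) := by
  subst hm
  have hO : Stable P m.opensRange := fun T v x e hv => by
    obtain ⟨v', rfl⟩ : ∃ v', v' ≫ m = v := ⟨_, IsOpenImmersion.lift_fac m v hv⟩
    have e' : v' ≫ (m ≫ f) ≫ p = x ≫ p := by
      refine Eq.trans ?_ e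
      simp
    rw [← hact v' x e' e]
    rintro _ ⟨t, rfl⟩
    exact ⟨_, rfl⟩
  refine ⟨hO, effective_of_ofIso _ m.isoOpensRange ?_⟩
  obtain ⟨d⟩ := h
  refine ⟨⟨d.U, d.a, d.q, ?_, fun {T} v x hv => ?_⟩⟩
  · have hi : m.isoOpensRange.hom ≫ m.opensRange.ι = m := Scheme.Hom.isoOpensRange_hom_ι m
    have hh : m.isoOpensRange.hom ≫ m.opensRange.ι ≫ f = m ≫ f := by rw [← Category.assoc, hi]
    exact cast (congrArg (fun z => IsPullback z d.q p d.a) hh.symm) d.isPullback
  · have hi : m.isoOpensRange.hom ≫ m.opensRange.ι = m := Scheme.Hom.isoOpensRange_hom_ι m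
    have e' : v ≫ (m ≫ f) ≫ p = x ≫ p := by
      refine Eq.trans ?_ hv
      rw [← Category.assoc m.isoOpensRange.hom, hi]
    refine Eq.trans (congrArg (· ≫ d.q) ?_) (d.comm v x e')
    rw [← cancel_mono m, hact v x e' (by simpa using e')]
    show ((restrict P hO).act _ x _ ≫ _) ≫ m = _
    conv_lhs => arg 2; rw [← hi]
    rw [Category.assoc, Iso.inv_hom_id_assoc, restrict_act_ι]
    exact P.act_congr (by rw [Category.assoc, hi]) rfl _ _

/-- Effectivity passes to an open subscheme kept by the action. -/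
theorem effective_of_openImmersion [Cov p] {V' : Scheme.{u}} {f' : V' ⟶ X} (P' : Pre p f')
    (P : Pre p f) (m : V' ⟶ V) [IsOpenImmersion m] (hm : m ≫ f = f')
    (hact : ∀ {T : Scheme.{u}} (v : T ⟶ V') (x : T ⟶ X) (h : v ≫ f' ≫ p = x ≫ p)
      (h' : (v ≫ m) ≫ f ≫ p = x ≫ p), P'.act v x h ≫ m = P.act (v ≫ m) x h')
    (h : Effective P) : Effective P' := by
  subst hm
  obtain ⟨hT, ⟨d⟩⟩ := effective_restrict_of_hom P P (𝟙 V) (Category.id_comp f)
    (fun v x h h' => (Category.comp_id _).trans (P.act_congr (Category.comp_id _).symm rfl _ _)) h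
  have hO : Stable P m.opensRange := fun T v x e hv => by
    obtain ⟨v', rfl⟩ : ∃ v', v' ≫ m = v := ⟨_, IsOpenImmersion.lift_fac m v hv⟩
    have e' : v' ≫ (m ≫ f) ≫ p = x ≫ p := by
      refine Eq.trans ?_ e
      simp
    rw [← hact v' x e' e]
    rintro _ ⟨t, rfl⟩
    exact ⟨_, rfl⟩
  have hle : m.opensRange ≤ (𝟙 V : V ⟶ V).opensRange := fun x _ => ⟨x, rfl⟩
  let d' := d.sub hle hT hO
  let e := m.isoOpensRange
  have he : e.hom ≫ m.opensRange.ι = m := Scheme.Hom.isoOpensRange_hom_ι m
  refine ⟨⟨d'.U, d'.a, e.hom ≫ d'.q, ?_, fun {T} v x hv => ?_⟩⟩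
  · exact d'.isPullback.of_iso e.symm (Iso.refl _) (Iso.refl _) (Iso.refl _)
      (by rw [Iso.refl_hom, Category.comp_id, Iso.symm_hom, ← cancel_epi e.hom,
        Iso.hom_inv_id_assoc, reassoc_of% he])
      (by simp) (by simp) (by simp)
  · have h' : (v ≫ e.hom) ≫ (m.opensRange.ι ≫ f) ≫ p = x ≫ p := by
      refine Eq.trans ?_ hv
      rw [Category.assoc, ← Category.assoc e.hom, ← Category.assoc e.hom, he]
    rw [← Category.assoc, ← Category.assoc]
    refine Eq.trans (congrArg (· ≫ d'.q) ?_) (d'.comm _ _ h')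
    rw [← cancel_mono m.opensRange.ι, Category.assoc, he, restrict_act_ι,
      hact v x hv (by simpa using hv)]
    exact P.act_congr (by rw [Category.assoc, he]) rfl _ _

end Groth.L20.SchDesc
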