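import Groth.Agent.L20.SchDesc.Hull
import Mathlib.LinearAlgebra.TensorProduct.Prod
import Mathlib.LinearAlgebra.TensorProduct.RightExactness
import Mathlib.RingTheory.Flat.Basic
import Mathlib.Algebra.Category.Ring.Constructions

/-!
# Coefficients of sections on a flat base change

A section on `Y ×_S X` killed by linear conditions coming from `Y` has a coefficient with the same
conditions which is nonzero at a given point.
-/

set_option autoImplicit false
set_option linter.style.haveILetI false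
set_option backward.isDefEq.respectTransparency.types false

universe u

open CategoryTheory Limits AlgebraicGeometry TensorProduct

namespace Groth.L20.SchDesc

section algebra

variable {R A B D C BP DP CP : Type u} [CommRing R] [CommRing A] [CommRing B] [CommRing D]
  [CommRing C] [CommRing BP] [CommRing DP] [CommRing CP] [Algebra R A] [Algebra R B] [Algebra R D]
  [Algebra R C]

/-- Exactness of tensoring with a flat algebra, with two conditions. -/
theorem exists_coeff [Module.Flat R A] (φ ψ : B →ₐ[R] D) (c : B →ₐ[R] C)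
    (μ : B ⊗[R] A →+* BP) (μD : D ⊗[R] A →+* DP) (μC : C ⊗[R] A →+* CP)
    (hμ : Function.Surjective μ) (hμD : Function.Injective μD) (hμC : Function.Injective μC)
    (Φ Ψ : BP →+* DP) (Χ : BP →+* CP)
    (hΦ : ∀ b a, Φ (μ (b ⊗ₜ a)) = μD (φ b ⊗ₜ a)) (hΨ : ∀ b a, Ψ (μ (b ⊗ₜ a)) = μD (ψ b ⊗ₜ a))
    (hΧ : ∀ b a, Χ (μ (b ⊗ₜ a)) = μC (c b ⊗ₜ a))
    (z : BP) (hz : Φ z = Ψ z) (hzc : Χ z = 0) (good : BP → Prop)
    (hzero : ¬ good 0) (hadd : ∀ x y, good (x + y) → good x ∨ good y) (hgood : good z) :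
    ∃ b a, φ b = ψ b ∧ c b = 0 ∧ good (μ (b ⊗ₜ a)) := by
  let d : B →ₗ[R] D × C := (φ.toLinearMap - ψ.toLinearMap).prod c.toLinearMap
  obtain ⟨w, rfl⟩ := hμ z
  have e₁ : Φ (μ w) = μD ((φ.toLinearMap.rTensor A) w) := by
    clear hz hzc hgood
    induction w using TensorProduct.induction_on with
    | zero => simp
    | tmul b a => exact hΦ b a
    | add x y hx hy => simp only [map_add, hx, hy]
  have e₂ : Ψ (μ w) = μD ((ψ.toLinearMap.rTensor A) w) := by
    clear hz hzc hgood e₁
    induction w using TensorProduct.induction_on with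
    | zero => simp
    | tmul b a => exact hΨ b a
    | add x y hx hy => simp only [map_add, hx, hy]
  have e₃ : Χ (μ w) = μC ((c.toLinearMap.rTensor A) w) := by
    clear hz hzc hgood e₁ e₂
    induction w using TensorProduct.induction_on with
    | zero => simp
    | tmul b a => exact hΧ b a
    | add x y hx hy => simp only [map_add, hx, hy]
  have hd : (d.rTensor A) w = 0 := by
    have hsplit : TensorProduct.prodLeft R R D C A ((d.rTensor A) w) =
        (((φ.toLinearMap - ψ.toLinearMap).rTensor A) w, (c.toLinearMap.rTensor A) w) := by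
      clear hz hzc hgood e₁ e₂ e₃
      induction w using TensorProduct.induction_on with
      | zero => simp; rfl
      | tmul b a => exact TensorProduct.prodLeft_tmul ..
      | add x y hx hy => simp only [map_add, hx, hy, Prod.mk_add_mk]
    apply (TensorProduct.prodLeft R R D C A).injective
    rw [hsplit, map_zero, LinearMap.rTensor_sub, LinearMap.sub_apply, Prod.mk_eq_zero, sub_eq_zero]
    exact ⟨hμD (e₁.symm.trans (hz.trans e₂)), hμC (by rw [← e₃, hzc, map_zero])⟩
  obtain ⟨k, rfl⟩ := (Module.Flat.rTensor_exact A (LinearMap.exact_subtype_ker_map d) w).1 hd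
  clear hd e₁ e₂ e₃ hz hzc
  induction k using TensorProduct.induction_on with
  | zero => exact absurd (by simpa using hgood) hzero
  | tmul b a =>
    have hb : d b.1 = 0 := b.2
    exact ⟨b.1, a, sub_eq_zero.1 (congrArg Prod.fst hb), congrArg Prod.snd hb, hgood⟩
  | add x y hx hy =>
    rw [map_add, map_add] at hgood
    exact (hadd _ _ hgood).elim hx hy

end algebra

variable {X S Y D C : Scheme.{u}}

/-- A section over the base change has a coefficient satisfying the same linear conditions. -/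
theorem exists_section_coeff [IsAffine X] [IsAffine S] (p : X ⟶ S) [Flat p]
    [CompactSpace Y] [QuasiSeparatedSpace Y] [CompactSpace D] [QuasiSeparatedSpace D]
    [CompactSpace C] [QuasiSeparatedSpace C] (a : Y ⟶ S) (aD : D ⟶ S) (aC : C ⟶ S)
    (φ ψ : D ⟶ Y) (c : C ⟶ Y) (hφ : φ ≫ a = aD) (hψ : ψ ≫ a = aD) (hc : c ≫ a = aC)
    (z : Γ(pullback a p, ⊤))
    (hz : (pairMap p φ aD a hφ).appTop z = (pairMap p ψ aD a hψ).appTop z)
    (hzc : (pairMap p c aC a hc).appTop z = 0)
    (r : ↥(pullback a p)) (hr : r ∈ (pullback a p).basicOpen z) :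
    ∃ b : Γ(Y, ⊤), φ.appTop b = ψ.appTop b ∧ c.appTop b = 0 ∧
      pullback.fst a p r ∈ Y.basicOpen b := by
  algebraize [a.appTop.hom, p.appTop.hom, aD.appTop.hom, aC.appTop.hom]
  have : Module.Flat Γ(S, ⊤) Γ(X, ⊤) := Scheme.Hom.flat_appTop p
  let φA : Γ(Y, ⊤) →ₐ[Γ(S, ⊤)] Γ(D, ⊤) :=
    { φ.appTop.hom with
      commutes' := fun s => by
        subst hφ
        rfl }
  let ψA : Γ(Y, ⊤) →ₐ[Γ(S, ⊤)] Γ(D, ⊤) :=
    { ψ.appTop.hom with
      commutes' := fun s => by
        subst hψ
        rfl }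
  let cA : Γ(Y, ⊤) →ₐ[Γ(S, ⊤)] Γ(C, ⊤) :=
    { c.appTop.hom with
      commutes' := fun s => by
        subst hc
        rfl }
  have key : ∀ {Z : Scheme.{u}} [CompactSpace Z] [QuasiSeparatedSpace Z] (b : Z ⟶ S)
      [Algebra Γ(S, ⊤) Γ(Z, ⊤)] (_ : algebraMap Γ(S, ⊤) Γ(Z, ⊤) = b.appTop.hom),
      ∃ μ : Γ(Z, ⊤) ⊗[Γ(S, ⊤)] Γ(X, ⊤) →+* Γ(pullback b p, ⊤), Function.Bijective μ ∧
        ∀ u v, μ (u ⊗ₜ v) = (pullback.fst b p).appTop u * (pullback.snd b p).appTop v := by
    intro Z _ _ b _ hb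
    have h := Groth.L22.AffDesc.isPushout_appTop (IsPullback.of_hasPullback b p)
    have h' : IsPushout (CommRingCat.ofHom (algebraMap Γ(S, ⊤) Γ(Z, ⊤)))
        (CommRingCat.ofHom (algebraMap Γ(S, ⊤) Γ(X, ⊤)))
        (pullback.fst b p).appTop (pullback.snd b p).appTop := by
      rw [hb]; exact h
    let T := CommRingCat.isPushout_tensorProduct Γ(S, ⊤) Γ(Z, ⊤) Γ(X, ⊤)
    let e := T.isoIsPushout _ _ h'
    refine ⟨e.hom.hom, e.commRingCatIsoToRingEquiv.bijective, fun u v => ?_⟩
    have h₁ := congr($(T.inl_isoIsPushout_hom _ _ h').hom u)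
    have h₂ := congr($(T.inr_isoIsPushout_hom _ _ h').hom v)
    change e.hom.hom (u ⊗ₜ 1) = _ at h₁
    change e.hom.hom (1 ⊗ₜ v) = _ at h₂
    rw [← h₁, ← h₂, ← map_mul, Algebra.TensorProduct.tmul_mul_tmul, mul_one, one_mul]
  obtain ⟨μ, hμ, hμt⟩ := key a rfl
  obtain ⟨μD, hμD, hμDt⟩ := key aD rfl
  obtain ⟨μC, hμC, hμCt⟩ := key aC rfl
  have hcompat : ∀ {Z : Scheme.{u}} (m : Z ⟶ Y) (b : Z ⟶ S) (hm : m ≫ a = b) u v,
      (pairMap p m b a hm).appTop ((pullback.fst a p).appTop u * (pullback.snd a p).appTop v) =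
        (pullback.fst b p).appTop (m.appTop u) * (pullback.snd b p).appTop v := by
    intro Z m b hm u v
    rw [map_mul, ← CommRingCat.comp_apply, ← CommRingCat.comp_apply, ← CommRingCat.comp_apply,
      ← Scheme.Hom.comp_appTop, ← Scheme.Hom.comp_appTop, ← Scheme.Hom.comp_appTop,
      pullback.lift_fst, pullback.lift_snd]
  obtain ⟨b, v, hb, hcb, hgood⟩ := exists_coeff φA ψA cA μ μD μC hμ.2 hμD.1 hμC.1
    (pairMap p φ aD a hφ).appTop.hom (pairMap p ψ aD a hψ).appTop.hom
    (pairMap p c aC a hc).appTop.hom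
    (fun b v => by rw [hμt, hμDt]; exact hcompat φ aD hφ b v)
    (fun b v => by rw [hμt, hμDt]; exact hcompat ψ aD hψ b v)
    (fun b v => by rw [hμt, hμCt]; exact hcompat c aC hc b v)
    z hz hzc (fun x => r ∈ (pullback a p).basicOpen x)
    (by rw [Scheme.basicOpen_zero]; exact not_false)
    (fun x y h => by
      simp only [Scheme.mem_basicOpen_top, map_add] at h ⊢
      exact IsLocalRing.isUnit_or_isUnit_of_isUnit_add h) hr
  refine ⟨b, hb, hcb, ?_⟩
  rw [hμt, Scheme.basicOpen_mul] at hgood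
  have := hgood.1
  rw [← Scheme.preimage_basicOpen_top] at this
  exact this

end Groth.L20.SchDesc
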