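import Groth.Agent.L20.SchDesc.Orbit
import Groth.Agent.L20.SchDesc.Sections
import Groth.Agent.L20.QuasiAffine

/-!
# Descent of ind-quasi-affine schemes along a flat map of affine schemes

Every point has a quasi-compact stable open neighbourhood.
-/

set_option autoImplicit false
set_option linter.style.haveILetI false
set_option backward.isDefEq.respectTransparency.types false

universe u

open CategoryTheory Limits AlgebraicGeometry TopologicalSpace

namespace Groth.L20.SchDesc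

variable {X S V : Scheme.{u}} {p : X ⟶ S} {f : V ⟶ X}

theorem quasiSeparatedSpace_of_isIndQuasiAffine (hV : MoreMor.IsIndQuasiAffine V) :
    QuasiSeparatedSpace V := by
  refine ⟨fun U U' hUo hUc hUo' hUc' => ?_⟩
  let U₁ : V.Opens := ⟨U, hUo⟩
  let U₂ : V.Opens := ⟨U', hUo'⟩
  have hW : IsCompact ((U₁ ⊔ U₂ : V.Opens) : Set V) := hUc.union hUc'
  have := hV _ hW
  exact ((isQuasiSeparated_iff_quasiSeparatedSpace _ (U₁ ⊔ U₂).2).2
    (inferInstance : QuasiSeparatedSpace ((U₁ ⊔ U₂ : V.Opens) : Scheme))) U U'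
    Set.subset_union_left hUo hUc Set.subset_union_right hUo' hUc'

/-- The orbit of a quasi-compact open is quasi-compact. -/
theorem isCompact_orbit [IsAffineHom p] (P : Pre p f) {M : V.Opens} (hM : IsCompact (M : Set V)) :
    IsCompact (P.map '' (src p f ⁻¹' (M : Set V))) := by
  have : IsAffineHom (src p f) := MorphismProperty.pullback_fst _ _ inferInstance
  exact (QuasiCompact.isCompact_preimage (f := src p f) _ M.2 hM).image P.map.continuous

theorem exists_compact_stable [IsAffine X] [IsAffine S] [Flat p] (P : Pre p f)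
    (hV : MoreMor.IsIndQuasiAffine V) (v : V) :
    ∃ O : V.Opens, v ∈ O ∧ IsCompact (O : Set V) ∧ Stable P O := by
  have := quasiSeparatedSpace_of_isIndQuasiAffine hV
  have : IsAffineHom p := isAffineHom_of_isAffine p
  have : IsAffineHom (src p f) := MorphismProperty.pullback_fst _ _ inferInstance
  obtain ⟨M, hM, hvM, -⟩ :=
    exists_isAffineOpen_mem_and_subset (X := V) (x := v) (U := ⊤) trivial
  let E : Set V := P.map '' (src p f ⁻¹' (M : Set V))
  have hE : IsCompact E := isCompact_orbit P hM.isCompact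
  have horb : ∀ {W : V.Opens}, E ⊆ W → M ≤ coreOpen P W := fun {W} h => le_core P
    fun u w ⟨r, hr, hw⟩ hu => h ⟨r, (show src p f r ∈ M by rw [hr]; exact hu), hw⟩
  have hEcore : ∀ {W : V.Opens}, E ⊆ W → E ⊆ coreOpen P W := fun {W} h => by
    rintro _ ⟨r, hr, rfl⟩
    exact orbit_mem_of_stable P (stable_core P W) ⟨r, rfl, rfl⟩ (horb h hr)
  obtain ⟨W₁, hW₁c, hEW₁, -⟩ :=
    Groth.L20.exists_isCompact_open_between hE (W := ⊤) (Set.subset_univ E)
  obtain ⟨N₁, hN₁c, hEN₁, hN₁⟩ :=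
    Groth.L20.exists_isCompact_open_between hE (hEcore hEW₁)
  obtain ⟨N₂, hN₂c, hEN₂, hN₂⟩ :=
    Groth.L20.exists_isCompact_open_between hE (hEcore hEN₁)
  have hvA : v ∈ coreOpen P N₂ := horb hEN₂ hvM
  have hvN₁ : v ∈ N₁ := core_le P N₁ (hN₂ (core_le P N₂ hvA))
  have := hV W₁ hW₁c
  have hvW₁ : v ∈ W₁ := core_le P W₁ (hN₁ hvN₁)
  obtain ⟨_, ⟨_, ⟨g, -, rfl⟩, rfl⟩, hvg, hgA⟩ :=
    (Scheme.IsQuasiAffine.isBasis_basicOpen (W₁ : Scheme)).exists_subset_of_mem_open
      (show (⟨v, hvW₁⟩ : W₁) ∈ ((W₁.ι ⁻¹ᵁ coreOpen P N₂ : W₁.toScheme.Opens) : Set W₁) from hvA)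
      (W₁.ι ⁻¹ᵁ coreOpen P N₂).2
  -- the scheme `Y = N₁`
  let Y : Scheme.{u} := N₁
  let a : Y ⟶ S := N₁.ι ≫ f ≫ p
  have : CompactSpace Y := isCompact_iff_compactSpace.1 hN₁c
  have : QuasiSeparatedSpace Y := (isQuasiSeparated_iff_quasiSeparatedSpace _ N₁.2).1
    (IsQuasiSeparated.of_quasiSeparatedSpace _)
  -- pairs starting in `N₂`
  let D₀ : (Pairs p f).Opens := src p f ⁻¹ᵁ N₂
  have : CompactSpace D₀ := isCompact_iff_compactSpace.1
    (QuasiCompact.isCompact_preimage (f := src p f) _ N₂.2 hN₂c)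
  have : QuasiSeparatedSpace (Pairs p f) := quasiSeparatedSpace_of_quasiSeparated (src p f)
  have : QuasiSeparatedSpace D₀ := (isQuasiSeparated_iff_quasiSeparatedSpace _ D₀.2).1
    (IsQuasiSeparated.of_quasiSeparatedSpace _)
  let aD : D₀.toScheme ⟶ S := D₀.ι ≫ src p f ≫ f ≫ p
  let φ : D₀.toScheme ⟶ Y := IsOpenImmersion.lift N₁.ι (D₀.ι ≫ src p f) (by
    rw [Scheme.Opens.range_ι]
    rintro _ ⟨t, rfl⟩
    exact core_le P N₁ (hN₂ t.2))
  let ψ : D₀.toScheme ⟶ Y := IsOpenImmersion.lift N₁.ι (D₀.ι ≫ P.map) (by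
    rw [Scheme.Opens.range_ι]
    rintro _ ⟨t, rfl⟩
    exact orbit_mem_of_mem_core P ⟨D₀.ι t, rfl, rfl⟩ (hN₂ t.2))
  have hφι : φ ≫ N₁.ι = D₀.ι ≫ src p f := IsOpenImmersion.lift_fac _ _ _
  have hψι : ψ ≫ N₁.ι = D₀.ι ≫ P.map := IsOpenImmersion.lift_fac _ _ _
  have hφa : φ ≫ a = aD := by simp only [a, aD, reassoc_of% hφι]
  have hψa : ψ ≫ a = aD := by
    simp only [a, aD, reassoc_of% hψι]
    rw [P.hom_p, ← pairs_cond]
  -- pairs starting in `N₁` and ending outside `N₂`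
  let C₀ : (Pairs p f).Opens := src p f ⁻¹ᵁ N₁
  have : CompactSpace C₀ := isCompact_iff_compactSpace.1
    (QuasiCompact.isCompact_preimage (f := src p f) _ N₁.2 hN₁c)
  have : QuasiSeparatedSpace C₀ := (isQuasiSeparated_iff_quasiSeparatedSpace _ C₀.2).1
    (IsQuasiSeparated.of_quasiSeparatedSpace _)
  let Z : TopologicalSpace.Closeds C₀.toScheme :=
    ⟨(C₀.ι ≫ P.map) ⁻¹' (N₂ : Set V)ᶜ, N₂.2.isClosed_compl.preimage (C₀.ι ≫ P.map).continuous⟩
  let I := Scheme.IdealSheafData.vanishingIdeal Z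
  let C : Scheme.{u} := I.subscheme
  have : CompactSpace C := QuasiCompact.compactSpace_of_compactSpace I.subschemeι
  have : QuasiSeparatedSpace C := quasiSeparatedSpace_of_quasiSeparated I.subschemeι
  let s₀ : C₀.toScheme ⟶ Y := IsOpenImmersion.lift N₁.ι (C₀.ι ≫ src p f) (by
    rw [Scheme.Opens.range_ι]
    rintro _ ⟨t, rfl⟩
    exact t.2)
  let c : C ⟶ Y := I.subschemeι ≫ s₀
  let aC : C ⟶ S := c ≫ a
  have hrange : Set.range I.subschemeι = (Z : Set C₀.toScheme) := by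
    rw [Scheme.IdealSheafData.range_subschemeι, Scheme.IdealSheafData.coe_support_vanishingIdeal]
  -- the transported section
  let j : pullback a p ⟶ Pairs p f :=
    pullback.lift (pullback.fst a p ≫ N₁.ι) (pullback.snd a p)
      (by rw [Category.assoc]; exact pullback.condition)
  have hj₁ : j ≫ src p f = pullback.fst a p ≫ N₁.ι := pullback.lift_fst _ _ _
  have hj₂ : j ≫ pt p f = pullback.snd a p := pullback.lift_snd _ _ _
  have hjorb : ∀ t, Orbit P (N₁.ι (pullback.fst a p t)) ((j ≫ P.map) t) := fun t => by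
    refine ⟨j t, ?_, rfl⟩
    rw [← Scheme.Hom.comp_apply, hj₁, Scheme.Hom.comp_apply]
  let κ : pullback a p ⟶ W₁ := IsOpenImmersion.lift W₁.ι (j ≫ P.map) (by
    rw [Scheme.Opens.range_ι]
    rintro _ ⟨t, rfl⟩
    exact orbit_mem_of_mem_core P (hjorb t) (hN₁ (pullback.fst a p t).2))
  have hκ : κ ≫ W₁.ι = j ≫ P.map := IsOpenImmersion.lift_fac _ _ _
  have hcrossed : pairMap p φ aD a hφa ≫ κ = pairMap p ψ aD a hψa ≫ κ := by
    rw [← cancel_mono W₁.ι, Category.assoc, Category.assoc, hκ]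
    let b₁ := pullback.fst aD p ≫ D₀.ι
    have hb : b₁ ≫ src p f ≫ f ≫ p = pullback.snd aD p ≫ p := by
      rw [Category.assoc]; exact pullback.condition
    have c₀ : (b₁ ≫ src p f) ≫ f ≫ p = (b₁ ≫ pt p f) ≫ p := by
      rw [Category.assoc, pairs_cond, ← Category.assoc]
    have hl : ∀ (m : D₀.toScheme ⟶ Y) (e : m ≫ a = aD) (v' : pullback aD p ⟶ V)
        (h : v' ≫ f ≫ p = pullback.snd aD p ≫ p), pullback.fst aD p ≫ m ≫ N₁.ι = v' →
        pairMap p m aD a e ≫ j ≫ P.map = P.act v' (pullback.snd aD p) h := by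
      intro m e v' h hm
      rw [P.act_eq_map v' _ h, ← Category.assoc]
      congr 1
      apply pullback.hom_ext
      · rw [Category.assoc, hj₁, pullback.lift_fst, ← Category.assoc, pullback.lift_fst,
          Category.assoc, hm]
      · rw [Category.assoc, hj₂, pullback.lift_snd, pullback.lift_snd]
    rw [hl φ hφa (b₁ ≫ src p f) ((Category.assoc _ _ _).trans hb)
        (by rw [hφι, Category.assoc]),
      hl ψ hψa (P.act (b₁ ≫ src p f) (b₁ ≫ pt p f) c₀) (by
        rw [P.hom_p, ← c₀, Category.assoc, hb]) (by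
        rw [hψι, ← Category.assoc]; exact P.natural' b₁ _ _ pairs_cond c₀ rfl rfl)]
    exact (P.comp _ _ _ _ _ _).symm
  -- it vanishes on `C`
  let pc := pairMap p c aC a rfl
  have : IsAffineHom (pullback.fst aC p) := MorphismProperty.pullback_fst _ _ inferInstance
  have : CompactSpace ↥(pullback aC p) :=
    QuasiCompact.compactSpace_of_compactSpace (pullback.fst aC p)
  have hbot : (pullback aC p).basicOpen ((pc ≫ κ).appTop g) = ⊥ := by
    rw [← Scheme.preimage_basicOpen_top, eq_bot_iff]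
    intro ξ hξ
    have hu : W₁.ι ((pc ≫ κ) ξ) ∈ coreOpen P N₂ := hgA hξ
    rw [← Scheme.Hom.comp_apply, Category.assoc, hκ, Scheme.Hom.comp_apply] at hu
    have h₁ := hjorb (pc ξ)
    have e₁ : pullback.fst a p (pc ξ) = c (pullback.fst aC p ξ) := by
      rw [← Scheme.Hom.comp_apply, pullback.lift_fst, Scheme.Hom.comp_apply]
    rw [e₁] at h₁
    let γ := I.subschemeι (pullback.fst aC p ξ)
    have hγ : γ ∈ (Z : Set C₀.toScheme) := hrange ▸ ⟨_, rfl⟩
    have e₂ : N₁.ι (c (pullback.fst aC p ξ)) = src p f (C₀.ι γ) := by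
      show N₁.ι ((I.subschemeι ≫ s₀) _) = _
      rw [← Scheme.Hom.comp_apply, Category.assoc, IsOpenImmersion.lift_fac]
      rfl
    rw [e₂] at h₁
    exact (hγ (orbit_mem_of_mem_core P
      (Orbit.trans P (Orbit.symm P h₁) ⟨C₀.ι γ, rfl, rfl⟩) hu)).elim
  obtain ⟨n, hn⟩ := (Scheme.isNilpotent_iff_basicOpen_eq_bot _).2 hbot
  -- the point above `v`
  let l : Y ⟶ pullback a p := pullback.lift (𝟙 Y) (N₁.ι ≫ f) (by
    rw [Category.id_comp, Category.assoc])
  have hlκ : l ≫ κ ≫ W₁.ι = N₁.ι := by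
    rw [hκ, ← Category.assoc]
    have : l ≫ j = N₁.ι ≫ pullback.lift (𝟙 V) f (Category.id_comp _) := by
      apply pullback.hom_ext
      · rw [Category.assoc, hj₁, pullback.lift_fst_assoc, Category.id_comp, Category.assoc,
          pullback.lift_fst, Category.comp_id]
      · rw [Category.assoc, hj₂, pullback.lift_snd, Category.assoc, pullback.lift_snd]
    rw [this, Category.assoc, P.map_self, Category.comp_id]
  have hr : l ⟨v, hvN₁⟩ ∈ (pullback a p).basicOpen (κ.appTop (g ^ n)) := by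
    rw [← Scheme.preimage_basicOpen_top]
    show κ (l ⟨v, hvN₁⟩) ∈ (W₁ : Scheme).basicOpen (g ^ n)
    have : κ (l ⟨v, hvN₁⟩) = ⟨v, hvW₁⟩ := W₁.ι.isOpenEmbedding.injective (by
      rw [← Scheme.Hom.comp_apply, ← Scheme.Hom.comp_apply, hlκ]
      rfl)
    rw [this, Scheme.mem_basicOpen_top, map_pow]
    exact ((Scheme.mem_basicOpen_top _ _ _).1 hvg).pow n
  obtain ⟨b, hb, hcb, hvb⟩ := exists_section_coeff p a aD aC φ ψ c hφa hψa rfl
    (κ.appTop (g ^ n))
    (by rw [← CommRingCat.comp_apply, ← CommRingCat.comp_apply, ← Scheme.Hom.comp_appTop,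
      ← Scheme.Hom.comp_appTop, hcrossed])
    (by rw [← CommRingCat.comp_apply, ← Scheme.Hom.comp_appTop, map_pow, hn])
    _ hr
  have hvb' : (⟨v, hvN₁⟩ : N₁) ∈ Y.basicOpen b := by
    rwa [← Scheme.Hom.comp_apply, pullback.lift_fst] at hvb
  -- the stable open
  let O : V.Opens := N₁.ι ''ᵁ Y.basicOpen b
  have hOA : O ≤ coreOpen P N₂ := by
    refine le_core P ?_
    rintro _ w ⟨r, hr, rfl⟩ ⟨u, hu, rfl⟩
    by_contra hw
    have hrC : r ∈ C₀ := by show src p f r ∈ N₁; rw [hr]; exact u.2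
    obtain ⟨γ, hγ⟩ : (⟨r, hrC⟩ : C₀) ∈ Set.range I.subschemeι := by rw [hrange]; exact hw
    have hu' : c γ ∈ Y.basicOpen b := by
      have : c γ = u := N₁.ι.isOpenEmbedding.injective (by
        show N₁.ι ((I.subschemeι ≫ s₀) γ) = _
        rw [← Scheme.Hom.comp_apply, Category.assoc, IsOpenImmersion.lift_fac,
          Scheme.Hom.comp_apply, hγ]
        exact hr)
      rw [this]; exact hu
    have : γ ∈ c ⁻¹ᵁ Y.basicOpen b := hu'
    rw [Scheme.preimage_basicOpen_top, hcb, Scheme.basicOpen_zero] at this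
    exact this
  refine ⟨O, ⟨_, hvb', rfl⟩, ?_, stable_of_orbit P fun u w huw hu => ?_⟩
  · show IsCompact (N₁.ι '' (Y.basicOpen b : Set Y))
    refine IsCompact.image ?_ N₁.ι.continuous
    simpa using isRetrocompact_basicOpen b (CompactSpace.isCompact_univ) isOpen_univ
  · have hA := hOA hu
    have hwA := orbit_mem_of_stable P (stable_core P N₂) huw hA
    obtain ⟨r, rfl, rfl⟩ := huw
    obtain ⟨u₀, hu₀, hu₀'⟩ := hu
    have hrD : r ∈ D₀ := core_le P N₂ hA
    have h1 : φ ⟨r, hrD⟩ = u₀ := N₁.ι.isOpenEmbedding.injective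
      ((congrArg (fun m : D₀.toScheme ⟶ V => m ⟨r, hrD⟩) hφι).trans hu₀'.symm)
    have h2 : (⟨r, hrD⟩ : D₀) ∈ φ ⁻¹ᵁ Y.basicOpen b := by
      show φ ⟨r, hrD⟩ ∈ Y.basicOpen b
      rw [h1]; exact hu₀
    rw [Scheme.preimage_basicOpen_top, hb, ← Scheme.preimage_basicOpen_top] at h2
    exact ⟨ψ ⟨r, hrD⟩, h2, congrArg (fun m : D₀.toScheme ⟶ V => m ⟨r, hrD⟩) hψι⟩

/-- A datum on an ind-quasi-affine scheme along a flat cover of affine schemes is effective. -/
theorem effective_of_isIndQuasiAffine [IsAffine X] [IsAffine S] [Flat p] [Surjective p]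
    (P : Pre p f) (hV : MoreMor.IsIndQuasiAffine V) : Effective P := by
  have : IsAffineHom p := isAffineHom_of_isAffine p
  refine effective_of_cover P fun v => ?_
  obtain ⟨O, hvO, hO, hst⟩ := exists_compact_stable P hV v
  have := hV O hO
  exact ⟨O, hvO, hst, effective_of_isQuasiAffine _⟩

end Groth.L20.SchDesc
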