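import Groth.Agent.L20.SchDesc.Glue
import Groth.Agent.L20.SchDesc.Affine
import Mathlib.AlgebraicGeometry.Morphisms.UniversallyInjective

/-!
# Descent along radicial fpqc morphisms

The action fixes every point of the total space, so every open is stable.
-/

set_option autoImplicit false
set_option linter.style.haveILetI false
set_option backward.isDefEq.respectTransparency.types false

universe u

open CategoryTheory Limits AlgebraicGeometry

namespace Groth.L20.SchDesc

variable {X S V : Scheme.{u}} {p : X ⟶ S} {f : V ⟶ X}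

theorem act_apply [UniversallyInjective p] (P : Pre p f) {T : Scheme.{u}} (v : T ⟶ V) (x : T ⟶ X)
    (h : v ≫ f ≫ p = x ≫ p) (t : T) : P.act v x h t = v t := by
  let σ : V ⟶ pullback (f ≫ p) p := pullback.lift (𝟙 V) f (Category.id_comp _)
  let l : T ⟶ pullback (f ≫ p) p := pullback.lift v x h
  have h0 : pullback.fst (f ≫ p) p ≫ f ≫ p = pullback.snd (f ≫ p) p ≫ p := pullback.condition
  let A : pullback (f ≫ p) p ⟶ V := P.act _ _ h0
  have hl : l ≫ A = P.act v x h :=
    P.natural' l _ _ h0 h (pullback.lift_fst _ _ _) (pullback.lift_snd _ _ _)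
  have hf : 𝟙 V ≫ f = f := Category.id_comp f
  have hσ : σ ≫ A = 𝟙 V :=
    (P.natural' σ _ _ h0 (x' := 𝟙 V ≫ f) (Category.assoc _ _ _).symm (pullback.lift_fst _ _ _)
      ((pullback.lift_snd _ _ _).trans hf.symm)).trans (P.self _ _)
  have e : l t = σ (v t) := by
    have : UniversallyInjective (pullback.fst (f ≫ p) p) :=
      MorphismProperty.pullback_fst (f ≫ p) p inferInstance
    refine (pullback.fst (f ≫ p) p).injective ?_
    rw [← Scheme.Hom.comp_apply, ← Scheme.Hom.comp_apply, pullback.lift_fst, pullback.lift_fst]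
    rfl
  rw [← hl, Scheme.Hom.comp_apply, e, ← Scheme.Hom.comp_apply, hσ]
  rfl

theorem stable_of_universallyInjective [UniversallyInjective p] (P : Pre p f) (O : V.Opens) :
    Stable P O := by
  intro T v x h hv
  rintro _ ⟨t, rfl⟩
  rw [act_apply]
  exact hv ⟨t, rfl⟩

/-- Descent along a radicial fpqc morphism is effective. -/
theorem effective_of_universallyInjective [Flat p] [Surjective p] [QuasiCompact p]
    [UniversallyInjective p] (P : Pre p f) : Effective P := by
  refine effective_of_cover P fun v => ?_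
  obtain ⟨Sa, hSa, hvS, -⟩ :=
    exists_isAffineOpen_mem_and_subset (X := S) (x := p (f v)) (U := ⊤) trivial
  obtain ⟨Xb, hXb, hvX, hXS⟩ :=
    exists_isAffineOpen_mem_and_subset (X := X) (x := f v) (U := p ⁻¹ᵁ Sa) hvS
  have hopen : IsOpenMap p := fun W hW => by
    rw [← (Flat.isQuotientMap_of_surjective p).isOpen_preimage,
      p.injective.preimage_image]
    exact hW
  obtain ⟨h, hle, hmem⟩ := hSa.exists_basicOpen_le
    (V := ⟨p '' (Xb : Set X), hopen _ Xb.2⟩) ⟨p (f v), f v, hvX, rfl⟩ hvS
  have hW : IsAffineOpen (p ⁻¹ᵁ S.basicOpen h) := by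
    have he : p ⁻¹ᵁ S.basicOpen h = X.basicOpen (p.appLE Sa Xb hXS h) := by
      rw [Scheme.basicOpen_appLE]
      refine (inf_eq_right.2 fun z hz => ?_).symm
      obtain ⟨y, hy, e⟩ := hle hz
      exact p.injective e ▸ hy
    rw [he]
    exact hXb.basicOpen _
  obtain ⟨O, hO, hvO, hOW⟩ :=
    exists_isAffineOpen_mem_and_subset (X := V) (x := v) (U := f ⁻¹ᵁ p ⁻¹ᵁ S.basicOpen h) hmem
  refine ⟨O, hvO, stable_of_universallyInjective P O, ?_⟩
  have : IsAffine O := hO
  have : IsAffine (p ⁻¹ᵁ S.basicOpen h : X.Opens) := hW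
  have : IsAffine (S.basicOpen h) := hSa.basicOpen h
  refine effective_of_ofBase _ (isPullback_morphismRestrict p (S.basicOpen h)).flip
    (f' := IsOpenImmersion.lift (p ⁻¹ᵁ S.basicOpen h).ι (O.ι ≫ f) (by
      rw [Scheme.Opens.range_ι]
      rintro _ ⟨t, rfl⟩
      exact hOW t.2)) (IsOpenImmersion.lift_fac _ _ _) ?_
  exact effective_of_affine _

end Groth.L20.SchDesc
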